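import Groth.Agent.S4991
import Groth.Agent.H23.MultiP1.Basic
import Groth.Agent.KRegLib.Regular
import Mathlib.RingTheory.RegularLocalRing.Defs

/-!
# Regularity of projective spaces over regular rings
-/

set_option autoImplicit false
set_option linter.style.haveILetI false
set_option backward.isDefEq.respectTransparency false
set_option backward.isDefEq.respectTransparency.types false

universe u

open CategoryTheory AlgebraicGeometry

namespace Groth.Agent.H26.Adjunction

open Groth.Agent

theorem regular_spec (A : Type u) [CommRing A] [IsRegularRing A] (p : Spec (CommRingCat.of A)) :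
    IsRegularLocalRing ↑((Spec (CommRingCat.of A)).presheaf.stalk p) := by
  letI : Algebra A ((Spec (CommRingCat.of A)).presheaf.stalk p) := StructureSheaf.stalkAlgebra A p
  haveI : IsLocalization.AtPrime ((Spec (CommRingCat.of A)).presheaf.stalk p) p.asIdeal :=
    StructureSheaf.IsLocalization.to_stalk (CommRingCat.of A) p
  haveI : IsRegularLocalRing (Localization.AtPrime p.asIdeal) := IsRegularRing.isRegularLocalRing_localization p.asIdeal
  exact IsRegularLocalRing.of_ringEquiv (IsLocalization.algEquiv p.asIdeal.primeCompl
    (Localization.AtPrime p.asIdeal) ((Spec (CommRingCat.of A)).presheaf.stalk p)).toRingEquiv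

/-- Projective space over a regular ring is regular. -/
theorem regular_projSpaceOver (A : Type u) [CommRing A] [IsRegularRing A] (n : ℕ)
    (p : CohB1.ProjSpaceOver n (Spec (CommRingCat.of A))) :
    IsRegularLocalRing ↑((CohB1.ProjSpaceOver n (Spec (CommRingCat.of A))).presheaf.stalk p) := by
  haveI : Smooth (CohB1.ProjSpaceOver.toBase n (Spec (CommRingCat.of A))) :=
    SmoothOfRelativeDimension.smooth n _
  exact (S4991.result (CohB1.ProjSpaceOver.toBase n (Spec (CommRingCat.of A))) p
    ⟨⊤, trivial, inferInstance⟩).2 (regular_spec A _)

end Groth.Agent.H26.Adjunction
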