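import Groth.Agent.H26.Adjunction.Lci
import Groth.Agent.H26.Adjunction.Regular
import Groth.Agent.Lib.CanonVia
import Groth.Agent.H28.KvbLam
import Groth.Agent.H28.PBCores
import Groth.Agent.H23.PicInv
import Groth.Agent.H23.P1Sect
import Groth.Agent.S13306
import Groth.Agent.H26.InterSymm
import Groth.Agent.H26.ArInter
import Groth.Agent.H28.PnBC
import Groth.Agent.H28.PnFlat
import Groth.Agent.SeesawX.PnFibre

/-!
# The canonical sheaf of a vertical prime divisor on an arithmetic surface
-/

noncomputable section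

set_option autoImplicit false
set_option linter.style.haveILetI false
set_option backward.isDefEq.respectTransparency false
set_option backward.isDefEq.respectTransparency.types false

universe u

open CategoryTheory CategoryTheory.Limits AlgebraicGeometry TopologicalSpace
open Groth.Agent.H23 Groth.Agent.H28

namespace Groth.Agent.H26.Adjunction

open Groth.Agent

/-- A canonical sheaf from a regular closed immersion into a smooth scheme. -/
theorem exists_isCanonical {X Y Z : Scheme.{u}} [IsIntegral X] [IsLocallyNoetherian Z] (f : X ⟶ Y) (i : X ⟶ Z)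
    [IsClosedImmersion i] (g : Z ⟶ Y) [QuasiSeparated g] (n : ℕ) [SmoothOfRelativeDimension n g]
    (h : Mor2.IsRegularClosedImmersion i) (hf : i ≫ g = f) :
    ∃ ω : X.Modules, PicF.IsInvertible ω ∧ Canon.IsCanonical f ω := by
  obtain ⟨c, -, hc⟩ := exists_codim i h
  have hr := CanonVia.rank_conormal i c hc
  have hΩ := KExact.DiagCodim.rank_omega g n
  let DC := ExtBase.L (Omega.conormal i) c
  let DΩ := ExtBase.L (Omega.sheaf g) n
  have hDC : PicF.IsInvertible DC := PBCores.isInvertible_iff_rank.2 (PBCores.rank_top hr)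
  have hDΩ : PicF.IsInvertible DΩ := PBCores.isInvertible_iff_rank.2 (PBCores.rank_top hΩ)
  obtain ⟨D, hD, hDD⟩ := PicInv.exists_inverse hDC
  letI := PicMul.clMonoid X
  refine ⟨CohB1.tensorMod D ((Scheme.Modules.pullback i).obj DΩ),
    PicMul.isInvertible_tensor hD (PicClLib.isInvertible_pullback i hDΩ), Z, i, g, c, n, hf, hc, inferInstance,
    inferInstance, inferInstance, DC, DΩ, ExtSh.isExtPow_L c (KvbModel.lf_of_rank hr),
    ExtSh.isExtPow_L n (KvbModel.lf_of_rank hΩ), ?_⟩
  refine PicMul.cl_eq_iff.1 ?_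
  have hone := PicMul.cl_eq_iff.2 hDD
  rw [PicMul.cl_tensor, ← PicMul.one_def] at hone
  rw [PicMul.cl_tensor, PicMul.cl_tensor, mul_comm, ← mul_assoc, hone, one_mul]

/-- The canonical sheaf of an effective Cartier divisor. -/
theorem isCanonical_effCartier {E X : Scheme.{u}} [IsIntegral E] [IsLocallyNoetherian X] (ι : E ⟶ X)
    [IsClosedImmersion ι] (h : BlowUp.IsEffCartierIdeal ι.ker) (hh : ∀ z : E,
      ringKrullDim (X.presheaf.stalk (ι (genericPoint E))) = 1)
    (L : X.Modules) (hL : ClSub.IsInverseOf L (ClSub.idealMod ι.ker)) :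
    Canon.IsCanonical ι ((Scheme.Modules.pullback ι).obj L) := by
  obtain ⟨c, hc0, hc⟩ := exists_codim ι (regClosed_of_effCartier ι h)
  rw [hh (genericPoint E)] at hc0
  obtain rfl : c = 1 := by exact_mod_cast hc0.symm
  letI := PicMul.clMonoid E
  letI := PicMul.clMonoid X
  refine ⟨X, ι, 𝟙 X, 1, 0, Category.comp_id _, hc, inferInstance, inferInstance, inferInstance,
    Omega.conormal ι, Coh.structureModule X, KvbLam.isExtPow_one _, KvbLam.isExtPow_zero _, ?_⟩
  refine PicMul.cl_eq_iff.1 ?_
  rw [PicMul.cl_tensor]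
  show PicMul.pullHom ι (PicF.cl L) * PicMul.pullHom ι (PicF.cl (ClSub.idealMod ι.ker)) =
    PicMul.pullHom ι (PicF.cl (Coh.structureModule X))
  rw [← map_mul, ← PicMul.cl_tensor, PicMul.cl_eq_iff.2 hL]

/-- An invertible module on the spectrum of a field is trivial. -/
theorem cl_eq_one_field {k : Type u} [Field k] {M : (Spec (CommRingCat.of k)).Modules} (hM : PicF.IsInvertible M) :
    letI := PicMul.clMonoid (Spec (CommRingCat.of k))
    PicF.cl M = 1 := by
  letI := PicMul.clMonoid (Spec (CommRingCat.of k))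
  haveI : Subsingleton (Spec (CommRingCat.of k)) := inferInstanceAs (Subsingleton (PrimeSpectrum k))
  obtain ⟨U, hU, e, he⟩ := InvX.exists_frame hM (IsLocalRing.closedPoint k)
  obtain rfl : U = ⊤ := top_le_iff.1 fun q _ => Subsingleton.elim (IsLocalRing.closedPoint k) q ▸ hU
  exact (PicMul.cl_eq_iff.2 (TrivBasic.triv_of_frame he)).trans PicMul.one_def.symm

/-- A closed immersion is, over its target, an immersion into a projective line. -/
theorem exists_immersion_P1 {X Y : Scheme.{u}} (f : X ⟶ Y) [IsClosedImmersion f] :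
    ∃ (m : ℕ) (j : X ⟶ CohB1.ProjSpaceOver m Y), IsImmersion j ∧ j ≫ CohB1.ProjSpaceOver.toBase m Y = f := by
  have hj : (f ≫ P1.sect Y 0) ≫ CohB1.ProjSpaceOver.toBase 1 Y = f := by
    rw [Category.assoc, P1Sect.sect_toBase, Category.comp_id]
  haveI : IsImmersion ((f ≫ P1.sect Y 0) ≫ CohB1.ProjSpaceOver.toBase 1 Y) := by rw [hj]; infer_instance
  exact ⟨1, f ≫ P1.sect Y 0, IsImmersion.of_comp _ (CohB1.ProjSpaceOver.toBase 1 Y), hj⟩

variable {R : Type u} [CommRing R] [IsDomain R] [IsDiscreteValuationRing R]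

/-- A vertical curve is embedded in projective space over the residue field. -/
theorem exists_embedding {X : Over (Spec (CommRingCat.of R))} (hX : ArSurf.IsArithSurface R X)
    (E : ArSurf.VertComp R X) :
    ∃ (N : ℕ) (iX : X.left ⟶ CohB1.ProjSpaceOver N (Spec (CommRingCat.of R)))
      (jk : E.curve.left ⟶ CohB1.ProjSpaceOver N (Spec (CommRingCat.of (IsLocalRing.ResidueField R)))),
      IsClosedImmersion iX ∧ iX ≫ CohB1.ProjSpaceOver.toBase N _ = X.hom ∧ IsClosedImmersion jk ∧
        jk ≫ CohB1.ProjSpaceOver.toBase N _ = E.curve.hom ∧ Mor2.IsRegularClosedImmersion jk ∧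
        Mor2.IsRegularClosedImmersion (E.ι ≫ iX) := by
  obtain ⟨hreg, hint, hdim, hflat, N, iX, hiX, hcomm⟩ := hX
  haveI := hint
  haveI := hiX
  haveI := E.isClosedImmersion
  haveI := E.isIntegral
  haveI := MultiP1.isProper_toBase (X := Spec (CommRingCat.of R)) N
  haveI : IsProper X.hom := hcomm ▸ inferInstance
  haveI : IsLocallyNoetherian X.left := LocallyOfFiniteType.isLocallyNoetherian X.hom
  let res := Spec.map (CommRingCat.ofHom (IsLocalRing.residue R))
  haveI : IsClosedImmersion res := IsClosedImmersion.spec_of_surjective _ IsLocalRing.residue_surjective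
  let ψ := H28.PnBC.ψ (n := N) res
  let jk : E.curve.left ⟶ CohB1.ProjSpaceOver N (Spec (CommRingCat.of (IsLocalRing.ResidueField R))) :=
    pullback.lift (E.ι ≫ iX ≫ pullback.fst _ _) E.curve.hom (specULiftZIsTerminal.hom_ext _ _)
  have h1 : jk ≫ CohB1.ProjSpaceOver.toBase N _ = E.curve.hom := pullback.lift_snd _ _ _
  have h2 : jk ≫ ψ = E.ι ≫ iX := by
    refine pullback.hom_ext ?_ ?_
    · rw [Category.assoc, Category.assoc]
      exact (congrArg (jk ≫ ·) (H28.PnBC.ψ_toPn res)).trans (pullback.lift_fst _ _ _)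
    · rw [Category.assoc, Category.assoc]
      refine (congrArg (jk ≫ ·) (H28.PnBC.ψ_pr res)).trans ?_
      show jk ≫ CohB1.ProjSpaceOver.toBase N _ ≫ res = E.ι ≫ iX ≫ CohB1.ProjSpaceOver.toBase N _
      rw [← Category.assoc, h1, hcomm]
      exact E.w.symm
  haveI : IsClosedImmersion ψ :=
    MorphismProperty.of_isPullback (P := @IsClosedImmersion) (SeesawX.PnFibre.isPullback_ψ res).flip inferInstance
  haveI : IsClosedImmersion (jk ≫ ψ) := by rw [h2]; infer_instance
  haveI : IsClosedImmersion jk := IsClosedImmersion.of_comp jk ψ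
  have hR : ∀ s, IsRegularLocalRing ↑((Spec (CommRingCat.of R)).presheaf.stalk s) := regular_spec R
  have heff : BlowUp.IsEffCartierIdeal E.ι.ker :=
    InterSymm.isEffCartier_ker hdim.le (by rw [hdim]; decide) hreg E
  have hlci : KRegLib.IsLCI' (E.ι ≫ X.hom) :=
    MorphismProperty.comp_mem _ _ _ (isLCI'_of_regClosed E.ι (regClosed_of_effCartier E.ι heff))
      (isLCI'_of_regular X.hom hreg hR)
  refine ⟨N, iX, jk, hiX, hcomm, inferInstance, h1, ?_, ?_⟩
  · haveI : LocallyOfFiniteType res := inferInstance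
    haveI : Smooth (CohB1.ProjSpaceOver.toBase N (Spec (CommRingCat.of (IsLocalRing.ResidueField R)))) :=
      SmoothOfRelativeDimension.smooth N _
    haveI : LocallyOfFiniteType (CohB1.ProjSpaceOver.toBase N
        (Spec (CommRingCat.of (IsLocalRing.ResidueField R))) ≫ res) :=
      MorphismProperty.comp_mem _ _ _ inferInstance inferInstance
    refine regClosed_of_lci jk (CohB1.ProjSpaceOver.toBase N _ ≫ res) (regular_projSpaceOver _ N) ?_
    rw [← Category.assoc, h1]
    exact E.w ▸ hlci
  · refine regClosed_of_lci (E.ι ≫ iX) (CohB1.ProjSpaceOver.toBase N _) (regular_projSpaceOver R N) ?_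
    rw [Category.assoc, hcomm]
    exact hlci

/-- The local ring of a surface at the generic point of a vertical curve has dimension one. -/
theorem ringKrullDim_stalk_generic {X : Over (Spec (CommRingCat.of R))} [IsIntegral X.left]
    (hdim : topologicalKrullDim X.left = 2) (Γc : ArSurf.VertComp R X) :
    ringKrullDim (X.left.presheaf.stalk (Γc.ι (genericPoint Γc.curve.left))) = 1 := by
  haveI := Γc.isClosedImmersion
  haveI := Γc.isIntegral
  set η := Γc.ι.base (genericPoint Γc.curve.left) with hη
  have hmax : ¬ IsMax η := by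
    intro hm
    have h1 : genericPoint X.left = η := by
      have hle : η ≤ genericPoint X.left := genericPoint_specializes η
      exact ((genericPoint_specializes η).antisymm (hm hle)).eq
    have hsurj : Function.Surjective Γc.ι.base := by
      rw [← Set.range_eq_univ, InterSymm.range_eq_closure Γc, ← hη, ← h1]
      exact (genericPoint_spec X.left).def
    have h2 := IsHomeomorph.topologicalKrullDim_eq _
      (isHomeomorph_iff_isEmbedding_surjective.2 ⟨Γc.ι.isClosedEmbedding.isEmbedding, hsurj⟩)
    rw [Γc.dim_eq, hdim] at h2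
    exact absurd h2 (by decide)
  have hmin : ¬ IsMin η := by
    intro hm
    have hall : ∀ y : Γc.curve.left, y = genericPoint Γc.curve.left := fun y =>
      Γc.ι.isClosedEmbedding.injective
        (Specializes.antisymm (hm ((genericPoint_specializes y).map Γc.ι.continuous))
          ((genericPoint_specializes y).map Γc.ι.continuous)).eq
    haveI : Subsingleton Γc.curve.left := ⟨fun a b => (hall a).trans (hall b).symm⟩
    have h0 : topologicalKrullDim Γc.curve.left ≤ 0 := by
      rw [topologicalKrullDim, Order.krullDim_eq_of_orderIso irreducibleSetEquivPoints]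
      exact Order.krullDim_nonpos_of_subsingleton
    rw [Γc.dim_eq] at h0
    exact absurd h0 (by decide)
  show ringKrullDim (X.left.presheaf.stalk η) = 1
  rw [ringKrullDim_stalk_eq_coheight]
  have hsum : ((Order.height η + Order.coheight η : ℕ∞) : WithBot ℕ∞) ≤ ((2 : ℕ∞) : WithBot ℕ∞) := by
    refine le_trans ?_ hdim.le
    rw [topologicalKrullDim, Order.krullDim_eq_of_orderIso irreducibleSetEquivPoints,
      Order.krullDim_eq_iSup_height_add_coheight_of_nonempty]
    exact WithBot.coe_le_coe.2 (le_iSup (fun a : X.left => Order.height a + Order.coheight a) η)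
  rw [WithBot.coe_le_coe] at hsum
  have hh : (1 : ℕ∞) ≤ Order.height η := Order.one_le_iff_pos.2 (Order.height_pos.2 hmin)
  have hc : (1 : ℕ∞) ≤ Order.coheight η := Order.one_le_iff_pos.2 (Order.coheight_pos.2 hmax)
  have : Order.coheight η = 1 := by
    refine le_antisymm ?_ hc
    have h2 : (1 : ℕ∞) + Order.coheight η ≤ 1 + 1 :=
      (add_le_add_left hh _).trans (by simpa [one_add_one_eq_two] using hsum)
    exact (ENat.add_le_add_iff_left (by simp)).1 h2
  rw [this]
  rfl

/-- Adjunction for a vertical prime divisor. -/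
theorem canonical_iso {X : Over (Spec (CommRingCat.of R))} (hX : ArSurf.IsArithSurface R X)
    (E : ArSurf.VertComp R X) (L : X.left.Modules) (hL : ClSub.IsInverseOf L (ClSub.idealMod E.ι.ker))
    (ω : X.left.Modules) (hω : Canon.IsCanonical X.hom ω)
    (ωE : E.curve.left.Modules) (hωE : Canon.IsCanonical E.curve.hom ωE) :
    Nonempty (ωE ≅ (Scheme.Modules.pullback E.ι).obj (CohB1.tensorMod L ω)) := by
  obtain ⟨N, iX, jk, hiX, hcomm, hjk, hjkc, hregk, hregX⟩ := exists_embedding hX E
  obtain ⟨hreg, hint, hdim, hflat, -⟩ := hX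
  haveI := hint
  haveI := hiX
  haveI := hjk
  haveI := E.isClosedImmersion
  haveI := E.isIntegral
  haveI := MultiP1.isProper_toBase (X := Spec (CommRingCat.of R)) N
  haveI : IsProper X.hom := hcomm ▸ inferInstance
  haveI : IsLocallyNoetherian X.left := LocallyOfFiniteType.isLocallyNoetherian X.hom
  haveI : IsLocallyNoetherian (CohB1.ProjSpaceOver N (Spec (CommRingCat.of R))) :=
    LocallyOfFiniteType.isLocallyNoetherian (CohB1.ProjSpaceOver.toBase N _)
  let res := Spec.map (CommRingCat.ofHom (IsLocalRing.residue R))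
  haveI : IsClosedImmersion res := IsClosedImmersion.spec_of_surjective _ IsLocalRing.residue_surjective
  have heff : BlowUp.IsEffCartierIdeal E.ι.ker :=
    InterSymm.isEffCartier_ker hdim.le (by rw [hdim]; decide) hreg E
  obtain ⟨ω₃, -, hω₃⟩ := exists_isCanonical (E.ι ≫ X.hom) (E.ι ≫ iX)
    (CohB1.ProjSpaceOver.toBase N (Spec (CommRingCat.of R))) N hregX (by rw [Category.assoc, hcomm])
  -- through the surface
  obtain ⟨e₁⟩ := S13306.result E.curve.left X.left _ E.ι X.hom (exists_immersion_P1 E.ι)
    ⟨N, iX, inferInstance, hcomm⟩ _ ω ω₃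
    (isCanonical_effCartier E.ι heff (fun _ => ringKrullDim_stalk_generic hdim E) L hL) hω hω₃
  -- through the residue field
  haveI : IsLocallyNoetherian (Spec (CommRingCat.of (IsLocalRing.ResidueField R))) := inferInstance
  obtain ⟨ω₂, hω₂i, hω₂⟩ := exists_isCanonical res res (𝟙 _) 0
    (regClosed_of_lci res (𝟙 _) (regular_spec R) (by
      rw [Category.comp_id]
      exact isLCI'_of_regular res (regular_spec _) (regular_spec R)))
    (Category.comp_id res)
  obtain ⟨e₂⟩ := S13306.result E.curve.left _ _ E.curve.hom res ⟨N, jk, inferInstance, hjkc⟩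
    (exists_immersion_P1 res) ωE ω₂ ω₃ hωE hω₂ (E.w ▸ hω₃)
  letI := PicMul.clMonoid E.curve.left
  letI := PicMul.clMonoid (Spec (CommRingCat.of (IsLocalRing.ResidueField R)))
  letI := PicMul.clMonoid X.left
  refine PicMul.cl_eq_iff.1 ?_
  have h2 := PicMul.cl_eq_iff.2 ⟨e₂⟩
  rw [PicMul.cl_tensor,
    show PicF.cl ((Scheme.Modules.pullback E.curve.hom).obj ω₂) = PicMul.pullHom E.curve.hom (PicF.cl ω₂) from rfl,
    cl_eq_one_field hω₂i, map_one, mul_one, PicMul.cl_eq_iff.2 ⟨e₁⟩, PicMul.cl_tensor] at h2
  rw [← h2]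
  show _ = PicMul.pullHom E.ι (PicF.cl (CohB1.tensorMod L ω))
  rw [PicMul.cl_tensor, map_mul]
  rfl

end Groth.Agent.H26.Adjunction
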