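import Groth.Prelude.Def_RegImm
import Groth.Prelude.Def_Mor2
import Groth.Agent.KRegLib.Closed
import Groth.Agent.QCoh.Stalk
import Mathlib.RingTheory.KrullDimension.Regular

/-!
# The codimension of a regular closed immersion with integral source
-/

set_option autoImplicit false
set_option linter.style.haveILetI false
set_option backward.isDefEq.respectTransparency false
set_option backward.isDefEq.respectTransparency.types false

universe u

open CategoryTheory AlgebraicGeometry TopologicalSpace RingTheory.Sequence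

namespace Groth.Agent.H26.Adjunction

/-- The length of a regular sequence generating the ideal of an integral closed subscheme near its generic
point is the dimension of the local ring there. -/
theorem length_eq {E P : Scheme.{u}} [IsIntegral E] [IsLocallyNoetherian P] (i : E ⟶ P) [IsClosedImmersion i]
    {U : P.Opens} (hU : IsAffineOpen U) (hη : i (genericPoint E) ∈ U) {rs : List Γ(P, U)}
    (hrs : IsRegular Γ(P, U) rs) (hI : i.ker.ideal ⟨U, hU⟩ = Ideal.ofList rs) :
    ringKrullDim (P.presheaf.stalk (i (genericPoint E))) = (rs.length : WithBot ℕ∞) := by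
  let y : U := ⟨i (genericPoint E), hη⟩
  letI : Algebra Γ(P, U) (P.presheaf.stalk (i (genericPoint E))) := (P.presheaf.germ U _ hη).hom.toAlgebra
  haveI : IsLocalization.AtPrime (P.presheaf.stalk (i (genericPoint E))) (hU.primeIdealOf y).asIdeal :=
    hU.isLocalization_stalk y
  haveI : Module.Flat Γ(P, U) (P.presheaf.stalk (i (genericPoint E))) :=
    IsLocalization.flat _ (hU.primeIdealOf y).asIdeal.primeCompl
  have hU' : IsAffineOpen (i ⁻¹ᵁ U) := hU.preimage i
  have hp : i.ker.ideal ⟨U, hU⟩ = (hU.primeIdealOf y).asIdeal := by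
    rw [Scheme.Hom.ker_apply, ← IsAffineOpen.comap_primeIdealOf_appLE (f := i) U hU (i ⁻¹ᵁ U) hU' le_rfl hη,
      PrimeSpectrum.comap_asIdeal]
    haveI : Nonempty (i ⁻¹ᵁ U : E.Opens) := ⟨⟨genericPoint E, hη⟩⟩
    have hb : hU'.primeIdealOf ⟨genericPoint E, hη⟩ = (⊥ : PrimeSpectrum Γ(E, i ⁻¹ᵁ U)) := by
      rw [hU'.primeIdealOf_genericPoint]
      exact genericPoint_eq_bot_of_affine _
    rw [hb, ← Scheme.Hom.app_eq_appLE]
    rfl
  haveI : IsNoetherianRing (P.presheaf.stalk (i (genericPoint E))) := inferInstance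
  let T := P.presheaf.stalk (i (genericPoint E))
  have hmax : Ideal.ofList (rs.map (algebraMap Γ(P, U) T)) = IsLocalRing.maximalIdeal T := by
    rw [← Ideal.map_ofList, ← hI, hp]
    exact IsLocalization.AtPrime.map_eq_maximalIdeal (hU.primeIdealOf y).asIdeal T
  have hreg : IsRegular T (rs.map (algebraMap Γ(P, U) T)) := by
    refine ⟨IsWeaklyRegular.of_flat hrs.1, fun h => ?_⟩
    rw [smul_eq_mul, Ideal.mul_top, hmax] at h
    exact IsLocalRing.maximalIdeal.isMaximal T |>.ne_top h.symm
  have h := ringKrullDim_add_length_eq_ringKrullDim_of_isRegular _ hreg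
  rw [hmax, List.length_map,
    show ringKrullDim (T ⧸ IsLocalRing.maximalIdeal T) = 0 from
      ringKrullDim_eq_zero_of_isField ((Ideal.Quotient.maximal_ideal_iff_isField_quotient _).1 inferInstance), zero_add] at h
  exact h.symm

/-- A regular closed immersion with integral source has constant codimension. -/
theorem exists_codim {E P : Scheme.{u}} [IsIntegral E] [IsLocallyNoetherian P] (i : E ⟶ P) [IsClosedImmersion i]
    (h : Mor2.IsRegularClosedImmersion i) :
    ∃ c : ℕ, ringKrullDim (P.presheaf.stalk (i (genericPoint E))) = (c : WithBot ℕ∞) ∧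
      RegImm.IsRegularImmersionOfCodim RegImm.Kind.regular c i := by
  have hgen : ∀ (z : E) (U : P.Opens), i z ∈ U → i (genericPoint E) ∈ U := fun z U hz =>
    ((genericPoint_specializes z).map i.continuous).mem_open U.2 hz
  obtain ⟨U₀, hU₀, hz₀, rs₀, hrs₀, hI₀⟩ := h.2 (genericPoint E)
  refine ⟨rs₀.length, length_eq i hU₀ hz₀ hrs₀ hI₀, inferInstance, fun z => ?_⟩
  obtain ⟨U, hU, hz, rs, hrs, hI⟩ := h.2 z
  refine ⟨⟨U, hU⟩, hz, ?_, rs, ?_, hrs, ?_⟩
  · exact IsZariskiLocalAtTarget.restrict (P := @IsClosedImmersion) (inferInstanceAs (IsClosedImmersion i)) U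
  · have h1 := (length_eq i hU (hgen z U hz) hrs hI).symm.trans (length_eq i hU₀ hz₀ hrs₀ hI₀)
    exact_mod_cast h1
  · rw [← Scheme.Hom.ker_apply i ⟨U, hU⟩]
    exact hI

end Groth.Agent.H26.Adjunction
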