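import Groth.Agent.H26.Adjunction.Duality
import Groth.Agent.H26.ArInter
import Groth.Agent.CurveGor.Subcurve

/-!
# The degree of the canonical sheaf of a vertical curve
-/

noncomputable section

set_option autoImplicit false
set_option linter.style.haveILetI false
set_option linter.unusedSectionVars false
set_option backward.isDefEq.respectTransparency false
set_option backward.isDefEq.respectTransparency.types false
set_option maxHeartbeats 1000000

universe u

open CategoryTheory CategoryTheory.Limits AlgebraicGeometry TopologicalSpace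
open Groth.Agent.H23 Groth.Agent.H28

namespace Groth.Agent.H26.Adjunction

open Groth.Agent

/-- A canonical sheaf is invertible. -/
theorem isInvertible_of_isCanonical {X Y : Scheme.{u}} [IsLocallyNoetherian Y] {f : X ⟶ Y} {ω : X.Modules}
    (h : Canon.IsCanonical f ω) : PicF.IsInvertible ω := by
  obtain ⟨Z, i, g, c, n, hf, hi, hg, hqc, hqs, DC, DΩ, hDC, hDΩ, he⟩ := h
  haveI := hg
  haveI := hqc
  haveI := hqs
  haveI : Smooth g := SmoothOfRelativeDimension.smooth n g
  haveI : IsLocallyNoetherian Z := LocallyOfFiniteType.isLocallyNoetherian g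
  have hr := CanonVia.rank_conormal i c hi
  have hΩ := KExact.DiagCodim.rank_omega g n
  obtain ⟨eC⟩ := ExtSh.nonempty_iso_L (KvbModel.lf_of_rank hr) hDC
  obtain ⟨eΩ⟩ := ExtSh.nonempty_iso_L (KvbModel.lf_of_rank hΩ) hDΩ
  have hDCi : PicF.IsInvertible DC :=
    PicMul.isInvertible_of_iso eC (PBCores.isInvertible_iff_rank.2 (PBCores.rank_top hr))
  have hDΩi : PicF.IsInvertible DΩ :=
    PicMul.isInvertible_of_iso eΩ (PBCores.isInvertible_iff_rank.2 (PBCores.rank_top hΩ))
  obtain ⟨D, hD, hDD⟩ := PicInv.exists_inverse hDCi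
  letI := PicMul.clMonoid X
  have hone := PicMul.cl_eq_iff.2 hDD
  rw [PicMul.cl_tensor, ← PicMul.one_def] at hone
  have h1 := PicMul.cl_eq_iff.2 he
  rw [PicMul.cl_tensor] at h1
  have h2 : PicF.cl (CohB1.tensorMod ((Scheme.Modules.pullback i).obj DΩ) D) = PicF.cl ω := by
    rw [PicMul.cl_tensor, ← h1, mul_assoc, hone, mul_one]
  exact PicMul.isInvertible_of_iso (PicMul.cl_eq_iff.1 h2).some
    (PicMul.isInvertible_tensor (PicClLib.isInvertible_pullback i hDΩi) hD)

variable {R : Type u} [CommRing R] [IsDomain R] [IsDiscreteValuationRing R]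

/-- The canonical sheaf of a vertical curve is dualizing. -/
theorem exists_dual_vert {X : Over (Spec (CommRingCat.of R))} (hX : ArSurf.IsArithSurface R X)
    (E : ArSurf.VertComp R X) :
    ∃ (ω : E.curve.left.Modules) (t : Coh.HH E.curve.left ω 1 →ₗ[IsLocalRing.ResidueField R] IsLocalRing.ResidueField R),
      PicF.IsInvertible ω ∧ Canon.IsRDualOver (IsLocalRing.ResidueField R) E.curve.left 1 ω t ∧
        Canon.IsCanonical E.curve.hom ω := by
  obtain ⟨N, iX, jk, hiX, hcomm, hjk, hjkc, hregk, -⟩ := exists_embedding hX E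
  haveI := hjk
  haveI := E.isIntegral
  let k := IsLocalRing.ResidueField R
  obtain ⟨a, ha, -⟩ := SeesawX.PnSpec.exists_iso N k
  haveI := NegVanStalk.noetherian k N
  haveI : Smooth (CohB1.ProjSpaceOver.toBase N (Spec (CommRingCat.of k))) :=
    SmoothOfRelativeDimension.smooth N _
  haveI : Smooth (CohB1.ProjSpace.toSpec N k) := CurveEmbed.smooth_toSpec N k
  have hj : (jk ≫ a.hom) ≫ CohB1.ProjSpace.toSpec N k = E.curve.left ↘ Spec (CommRingCat.of k) := by
    rw [Category.assoc, ha]
    exact hjkc
  haveI : IsLocallyNoetherian (CohB1.ProjSpaceOver N (Spec (CommRingCat.of k))) :=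
    LocallyOfFiniteType.isLocallyNoetherian (CohB1.ProjSpaceOver.toBase N (Spec (CommRingCat.of k)))
  have hlci : KRegLib.IsLCI' ((jk ≫ a.hom) ≫ CohB1.ProjSpace.toSpec N k) := by
    rw [Category.assoc, ha]
    exact MorphismProperty.comp_mem _ _ _ (isLCI'_of_regClosed jk hregk)
      (isLCI'_of_regular _ (regular_projSpaceOver k N) (regular_spec k))
  exact exists_canonical_dual (k := k) E.dim_eq (jk ≫ a.hom) hj
    (regClosed_of_lci (jk ≫ a.hom) (CohB1.ProjSpace.toSpec N k) (fun p => NegVanStalk.isRegular_stalk p) hlci)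

/-- The Euler characteristic of an invertible dualizing sheaf. -/
theorem euler_dual_vert {X : Over (Spec (CommRingCat.of R))} [IsProper X.hom] (E : ArSurf.VertComp R X)
    {ω : E.curve.left.Modules} (hωi : PicF.IsInvertible ω)
    {t : Coh.HH E.curve.left ω 1 →ₗ[IsLocalRing.ResidueField R] IsLocalRing.ResidueField R}
    (hω : Canon.IsRDualOver (IsLocalRing.ResidueField R) E.curve.left 1 ω t) :
    Curv2.euler (IsLocalRing.ResidueField R) E.curve.left (Coh.structureModule E.curve.left) =
      -Curv2.euler (IsLocalRing.ResidueField R) E.curve.left ω := by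
  haveI := ArInter.isProper_curve E
  haveI := E.isIntegral
  haveI := CurveCohLib.isNoetherian_of_proper (k := IsLocalRing.ResidueField R) (X := E.curve.left)
  exact CurveDual.euler_structure E.dim_eq.le (fun x hx => CurveGor.one_le_depth_of_torsionFree
    (CurveGor.isTorsionFree_of_isInvertible InvX.isInvertible_structureModule)
    (CurveDual.notMem_gen E.dim_eq hx)) hω (CurveDeg.isCoh_of_isInvertible hωi)

/-- The Euler characteristic of the structure sheaf, computed in degrees at most one. -/
theorem eulerLE_structure {X : Over (Spec (CommRingCat.of R))} [IsProper X.hom] (E : ArSurf.VertComp R X) :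
    FGA.eulerCharLE (IsLocalRing.ResidueField R) E.curve.left (Coh.structureModule E.curve.left) 1 =
      Curv2.euler (IsLocalRing.ResidueField R) E.curve.left (Coh.structureModule E.curve.left) := by
  haveI := ArInter.isProper_curve E
  haveI := CurveCohLib.isNoetherian_of_proper (k := IsLocalRing.ResidueField R) (X := E.curve.left)
  rw [CurveRR.euler_eq_h0_sub_h1 _ E.dim_eq.le QCoh.isQCoh_structureModule, FGA.eulerCharLE, Finset.sum_range_succ,
    Finset.sum_range_one]
  simp
  ring

/-- The degree of an invertible sheaf is the change of Euler characteristic. -/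
theorem deg_eq {X : Over (Spec (CommRingCat.of R))} [IsProper X.hom] (E : ArSurf.VertComp R X)
    {M : E.curve.left.Modules} (hM : PicF.IsInvertible M) :
    ArSurf.curveDeg (IsLocalRing.ResidueField R) E.curve.left M =
      Curv2.euler (IsLocalRing.ResidueField R) E.curve.left M -
        Curv2.euler (IsLocalRing.ResidueField R) E.curve.left (Coh.structureModule E.curve.left) := by
  rw [ArInter.curveDeg_eq E hM, Curv2.deg]
  simp

/-- Adjunction formula. -/
theorem inter_add_inter {X : Over (Spec (CommRingCat.of R))} (hX : ArSurf.IsArithSurface R X)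
    (E : ArSurf.VertComp R X) (L : X.left.Modules) (hL : ClSub.IsInverseOf L (ClSub.idealMod E.ι.ker))
    (ω : X.left.Modules) (hω : Canon.IsCanonical X.hom ω) :
    ArSurf.inter R X L E + ArSurf.inter R X ω E =
      -2 * FGA.eulerCharLE (IsLocalRing.ResidueField R) E.curve.left (Coh.structureModule E.curve.left) 1 := by
  obtain ⟨ω₀, t, hi₀, hd₀, hc₀⟩ := exists_dual_vert hX E
  obtain ⟨e⟩ := canonical_iso hX E L hL ω hω ω₀ hc₀
  obtain ⟨hreg, hint, hdim, hflat, N, iX, hiX, hcomm⟩ := hX
  haveI := hint
  haveI := hiX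
  haveI := MultiP1.isProper_toBase (X := Spec (CommRingCat.of R)) N
  haveI : IsProper X.hom := hcomm ▸ inferInstance
  have hLi : PicF.IsInvertible L := ArInter.isInvertible_of_inverse
    (H26.IdealCl.isInvertible_idealMod (InterSymm.isEffCartier_ker hdim.le (by rw [hdim]; decide) hreg E)) hL
  rw [← ArInter.inter_tensor E hLi (isInvertible_of_isCanonical hω)]
  unfold ArSurf.inter
  rw [deg_eq E (PicMul.isInvertible_of_iso e hi₀), ← CurveCohLib.euler_congr (k := IsLocalRing.ResidueField R) e,
    eulerLE_structure E]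
  linarith [euler_dual_vert E hi₀ hd₀]

/-- No first cohomology above the degree of the canonical sheaf. -/
theorem subsingleton_H1 {X : Over (Spec (CommRingCat.of R))} (hX : ArSurf.IsArithSurface R X)
    (E : ArSurf.VertComp R X) {M : E.curve.left.Modules} (hM : PicF.IsInvertible M)
    (hdeg : -2 * FGA.eulerCharLE (IsLocalRing.ResidueField R) E.curve.left (Coh.structureModule E.curve.left) 1 <
      ArSurf.curveDeg (IsLocalRing.ResidueField R) E.curve.left M) :
    Subsingleton (Coh.HH E.curve.left M 1) := by
  obtain ⟨ω₀, t, hi₀, hd₀, -⟩ := exists_dual_vert hX E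
  obtain ⟨hreg, hint, hdim, hflat, N, iX, hiX, hcomm⟩ := hX
  haveI := hiX
  haveI := MultiP1.isProper_toBase (X := Spec (CommRingCat.of R)) N
  haveI : IsProper X.hom := hcomm ▸ inferInstance
  haveI := ArInter.isProper_curve E
  haveI := E.isIntegral
  haveI := CurveCohLib.isNoetherian_of_proper (k := IsLocalRing.ResidueField R) (X := E.curve.left)
  refine CurveDual.subsingleton_H1_of_hom hd₀ (CurveDeg.isCoh_of_isInvertible hM).1 fun φ => by_contra fun hφ => ?_
  have h := (CurveDeg.euler_le_and_isIso (IsLocalRing.ResidueField R) E.dim_eq.le hM hi₀ φ hφ).1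
  have h2 := euler_dual_vert E hi₀ hd₀
  rw [deg_eq E hM, eulerLE_structure E] at hdeg
  omega

end Groth.Agent.H26.Adjunction
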