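import Groth.Agent.H26.Adjunction.Canon
import Groth.Agent.S11325
import Groth.Agent.Synt29.SurfP3
import Groth.Agent.S13310
import Groth.Agent.S10829
import Groth.Agent.S13306
import Groth.Agent.Lib.SmoothPn
import Groth.Agent.Lib.CurveDeg
import Groth.Agent.NormalLib.Finite
import Groth.Agent.CurveDual.Euler
import Groth.Agent.CurveDual.Depth
import Groth.Agent.CurveGor.Dual
import Groth.Agent.VarDim.Local
import Groth.Agent.VarDim.Top

/-!
# The canonical sheaf of an integral local complete intersection curve is dualizing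
-/

noncomputable section

set_option autoImplicit false
set_option linter.style.haveILetI false
set_option linter.unusedSectionVars false
set_option backward.isDefEq.respectTransparency false
set_option backward.isDefEq.respectTransparency.types false
set_option maxHeartbeats 1000000

universe u

open CategoryTheory CategoryTheory.Limits AlgebraicGeometry TopologicalSpace
open Groth.Agent.H23 Groth.Agent.H28

namespace Groth.Agent.H26.Adjunction

open Groth.Agent

variable {k : Type u} [Field k] {C : Scheme.{u}} [C.Over (Spec (CommRingCat.of k))] [IsIntegral C]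
  (hdim : topologicalKrullDim C = 1) {N : ℕ}

include hdim in
/-- The codimension of a curve in projective space. -/
theorem codim_curve (j : C ⟶ CohB1.ProjSpace N k) [IsClosedImmersion j] (h : Mor2.IsRegularClosedImmersion j) :
    ∃ c : ℕ, N = c + 1 ∧ RegImm.IsRegularImmersionOfCodim RegImm.Kind.regular c j := by
  haveI := NegVanStalk.noetherian k N
  obtain ⟨c, hc0, hc⟩ := exists_codim j h
  refine ⟨c, ?_, hc⟩
  let f := CohB1.ProjSpace.toSpec N k
  haveI : IsIntegral (CohB1.ProjSpace N k) := PnChart.isIntegral_projSpace N k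
  haveI : LocallyOfFiniteType f := by
    haveI := CurveEmbed.smooth_toSpec N k
    infer_instance
  obtain ⟨b, hb, ⟨θ, -, hθ⟩, hle⟩ := VarDim.exists_deg_add_stalk f (j (genericPoint C))
  rw [hc0] at hb
  have hbc : c = b := by exact_mod_cast hb
  have hr : closure ({j (genericPoint C)} : Set (CohB1.ProjSpace N k)) = Set.range j.base := by
    have h := (genericPoint_spec C).image j.continuous
    rw [Set.image_univ, j.isClosedEmbedding.isClosed_range.closure_eq] at h
    exact h.def
  have h2 : VarDim.deg f (j (genericPoint C)) = 1 := by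
    have h := VarDim.topologicalKrullDim_closure_singleton f (j (genericPoint C))
    rw [hr, ← IsHomeomorph.topologicalKrullDim_eq _ j.isClosedEmbedding.isEmbedding.toHomeomorph.isHomeomorph,
      hdim] at h
    exact_mod_cast (WithBot.coe_inj.1 h).symm
  have h3 : VarDim.deg f (genericPoint (CohB1.ProjSpace N k)) = N := by
    have h := VarDim.topologicalKrullDim_eq_deg_genericPoint f
    rw [S10829.result k N] at h
    exact_mod_cast (WithBot.coe_inj.1 h).symm
  have h4 := hle _ (genericPoint_specializes (j (genericPoint C)))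
  have h5 := VarDim.deg_le_of_specializes f (genericPoint_specializes θ)
  omega

/-- From a trace in degree `m = 1` to one in degree one. -/
theorem trace_one {M : C.Modules} {m : ℕ} (hm : m = 1)
    (h : ∃ t : Coh.HH C M m →ₗ[k] k, ∀ F : C.Modules, Coh.IsCoh F → ∀ ψ : Coh.HH C F m →ₗ[k] k,
      ∃! φ : F ⟶ M, ∀ x : Coh.HH C F m,
        ψ x = t (Sheaf.H.map ((SheafOfModules.toSheaf C.ringCatSheaf).map φ) m x)) :
    ∃ t : Coh.HH C M 1 →ₗ[k] k, ∀ F : C.Modules, Coh.IsCoh F →
      Function.Bijective (Canon.dualityMap k C 1 M t F) := by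
  subst hm
  obtain ⟨t, ht⟩ := h
  refine ⟨t, fun F hF => ⟨fun φ φ' he => ?_, fun ψ => ?_⟩⟩
  · obtain ⟨φ₀, -, huniq⟩ := ht F hF (Canon.dualityMap k C 1 M t F φ)
    exact (huniq φ fun x => rfl).trans (huniq φ' fun x => LinearMap.congr_fun he x).symm
  · obtain ⟨φ₀, hφ₀, -⟩ := ht F hF ψ
    exact ⟨φ₀, LinearMap.ext fun x => (hφ₀ x).symm⟩

include hdim in
/-- The canonical sheaf of a curve which is a complete intersection in projective space is dualizing. -/
theorem exists_canonical_dual (j : C ⟶ CohB1.ProjSpace N k) [IsClosedImmersion j]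
    (hj : j ≫ CohB1.ProjSpace.toSpec N k = C ↘ Spec (CommRingCat.of k))
    (h : Mor2.IsRegularClosedImmersion j) :
    ∃ (ω : C.Modules) (t : Coh.HH C ω 1 →ₗ[k] k), PicF.IsInvertible ω ∧ Canon.IsRDualOver k C 1 ω t ∧
      Canon.IsCanonical (C ↘ Spec (CommRingCat.of k)) ω := by
  haveI := NegVanStalk.noetherian k N
  haveI : SmoothOfRelativeDimension N (CohB1.ProjSpace.toSpec N k) := SmoothPn.smoothOfRelativeDimension_toSpec N k
  haveI : QuasiSeparated (CohB1.ProjSpace.toSpec N k) := by
    haveI : IsProper (CohB1.ProjSpace.toSpec N k) := PnCoh.Chow.isProper_toSpec N _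
    infer_instance
  obtain ⟨c, hN, hc⟩ := codim_curve hdim j h
  have hgen : ∀ x : C, ∃ U : (CohB1.ProjSpace N k).affineOpens, j.base x ∈ (U : (CohB1.ProjSpace N k).Opens) ∧
      ∃ f : Fin c → Γ(CohB1.ProjSpace N k, (U : (CohB1.ProjSpace N k).Opens)), j.ker.ideal U = Ideal.span (Set.range f) := by
    intro z
    obtain ⟨U, hU, hz, rs, hrs, hI⟩ := h.2 z
    have hlen : rs.length = c := by
      have h1 := length_eq j hU (((genericPoint_specializes z).map j.continuous).mem_open U.2 hz) hrs hI
      obtain ⟨V, hV0, hV1, rs', hlen', hrs', hI'⟩ := hc.2 (genericPoint C)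
      have h2 := length_eq j V.2 hV0 hrs' ((Scheme.Hom.ker_apply j V).trans hI')
      rw [h1] at h2
      have h3 : rs.length = rs'.length := by exact_mod_cast h2
      omega
    refine ⟨⟨U, hU⟩, hz, fun a => rs.get (Fin.cast hlen.symm a), hI.trans ?_⟩
    rw [Ideal.ofList, show Set.range (fun a : Fin c => rs.get (Fin.cast hlen.symm a)) = {r | r ∈ rs} from ?_]
    ext r
    exact ⟨fun ⟨a, ha⟩ => ha ▸ List.get_mem _ _, fun hr => by
      obtain ⟨n, hn⟩ := List.mem_iff_get.1 hr
      exact ⟨Fin.cast hlen n, by simpa using hn⟩⟩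
  have heq : ∀ Z : Set ↥C, Z ∈ irreducibleComponents ↥C → topologicalKrullDim ↥Z = ((N - c : ℕ) : WithBot ℕ∞) := by
    intro Z hZ
    rw [show N - c = 1 by omega]
    rw [irreducibleComponents_eq_singleton, Set.mem_singleton_iff] at hZ
    subst hZ
    exact ((Homeomorph.Set.univ C).isHomeomorph.topologicalKrullDim_eq _).trans hdim
  have hr := CanonVia.rank_conormal j c hc
  let DC := ExtBase.L (Omega.conormal j) c
  have hDC : ExtPow.IsExtPow c (Omega.conormal j) DC := ExtSh.isExtPow_L c (KvbModel.lf_of_rank hr)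
  have hDCi : PicF.IsInvertible DC := PBCores.isInvertible_iff_rank.2 (PBCores.rank_top hr)
  haveI := NormalLib.hasSheafHom DC
  let M := CohB1.tensorMod ((Scheme.Modules.pullback j).obj (Twist.twistProjSpace N k (-((N : ℤ) + 1))))
    ((DCoh.sheafHom DC).obj (Coh.structureModule C))
  obtain ⟨t, ht⟩ := trace_one (k := k) (M := M) (show N - c = 1 by omega)
    (S11325.result k N c (by omega) C j hj heq hgen DC hDC)
  -- the tensor inverse of the determinant
  obtain ⟨e⟩ : Nonempty (CohB1.tensorMod ((DCoh.sheafHom DC).obj (Coh.structureModule C)) DC ≅ Coh.structureModule C) := by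
    haveI := (RegExtFormula.isQCoh_and_iso DC (Coh.structureModule C) hDCi
      (RegExtFormula.isQCoh_inv InvX.isInvertible_structureModule)).2
    let τ : (DCoh.sheafHom DC) ≅ SheafHomX.hom DC :=
      ((Adjunction.ofIsLeftAdjoint (DCoh.tensorBi.obj DC)).ofNatIsoLeft
        ((KFlatLib.tensorBiFlipIso C).app DC).symm).rightAdjointUniq (SheafHomX.adj DC)
    exact ⟨PicGrp.tensorModIso (τ.app _) (Iso.refl DC) ≪≫
      asIso ((SheafHomX.adj DC).counit.app (Coh.structureModule C))⟩
  have hO : PicF.IsInvertible (Twist.twistProjSpace N k (-((N : ℤ) + 1))) := DualRange.isInvertible_pn _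
  have hMi : PicF.IsInvertible M := PicMul.isInvertible_tensor (PicClLib.isInvertible_pullback j hO)
    (ArInter.isInvertible_of_inverse hDCi ⟨e⟩)
  haveI : LocallyOfFiniteType (C ↘ Spec (CommRingCat.of k)) := by
    rw [← hj]
    infer_instance
  have hfib : ∀ y : ↥(Spec (CommRingCat.of k)),
      topologicalKrullDim ↥((C ↘ Spec (CommRingCat.of k)).fiber y) ≤ ((1 : ℕ) : WithBot ℕ∞) := fun y =>
    ((C ↘ Spec (CommRingCat.of k)).fiberι y).isEmbedding.isInducing.topologicalKrullDim_le.trans hdim.le
  refine ⟨M, t, hMi, S13310.result k N 1 C j hj hfib M (QCoh.isQCoh_of_isFinLocFree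
    (H23.PullPush.isFinLocFree_of_isInvertible hMi)) t fun m => ht _ (DualRange.isCoh_pull j m), ?_⟩
  have hΩ := KExact.DiagCodim.rank_omega (CohB1.ProjSpace.toSpec N k) N
  refine ⟨_, j, CohB1.ProjSpace.toSpec N k, c, N, hj, hc, inferInstance, inferInstance, inferInstance,
    DC, ExtBase.L (Omega.sheaf (CohB1.ProjSpace.toSpec N k)) N, hDC, ExtSh.isExtPow_L N (KvbModel.lf_of_rank hΩ), ?_⟩
  letI := PicMul.clMonoid C
  letI := PicMul.clMonoid (CohB1.ProjSpace N k)
  refine PicMul.cl_eq_iff.1 ?_
  have h1 := PicMul.cl_eq_iff.2 ⟨e⟩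
  rw [PicMul.cl_tensor, ← PicMul.one_def] at h1
  rw [PicMul.cl_tensor, PicMul.cl_tensor, mul_assoc, h1, mul_one]
  exact (congrArg (PicMul.pullHom j)
    (Synt29.SurfP3.cl_omega_top N k (ExtSh.isExtPow_L N (KvbModel.lf_of_rank hΩ)))).symm

end Groth.Agent.H26.Adjunction
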