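import Groth.Agent.IntThLib.Euler
import Mathlib.RingTheory.DiscreteValuationRing.Basic
import Mathlib.RingTheory.Ideal.AssociatedPrime.Basic
import Mathlib

/-!
# Multiplication by an element of a finite extension of a discrete valuation ring
-/

noncomputable section

set_option autoImplicit false

universe u

namespace Groth.Agent.H26.Adjunction.EulMul

open Groth.Agent

variable {R : Type u} [CommRing R] [IsDomain R] [IsDiscreteValuationRing R]

/-- A finite module killed by a non-zero element has finite length and rank zero. -/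
theorem finite_length_of_smul_zero {M : Type u} [AddCommGroup M] [Module R M] [Module.Finite R M] {a : R}
    (ha : a ≠ 0) (h : ∀ x : M, a • x = 0) : Module.length R M ≠ ⊤ ∧ Module.finrank R M = 0 := by
  refine ⟨?_, Module.finrank_eq_zero_iff.2 fun x => ⟨a, ha, h x⟩⟩
  haveI hart : IsArtinian R (R ⧸ Ideal.span {a}) := by
    exact (isFiniteLength_iff_isNoetherian_isArtinian.1
      (isFiniteLength_quotient_span_singleton R (mem_nonZeroDivisors_of_ne_zero ha))).2
  obtain ⟨n, s, hs⟩ := Module.Finite.exists_fin (R := R) (M := M)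
  let F : (Fin n → R ⧸ Ideal.span {a}) →ₗ[R] M :=
    ∑ i, ((Submodule.liftQ (Ideal.span {a}) (LinearMap.toSpanSingleton R M (s i)) (by
      intro r hr
      obtain ⟨c, rfl⟩ := Ideal.mem_span_singleton'.1 hr
      show (c * a) • s i = 0
      rw [mul_smul, h, smul_zero])).comp (LinearMap.proj i))
  have hF : Function.Surjective F := by
    rw [← LinearMap.range_eq_top, eq_top_iff, ← hs, Submodule.span_le]
    rintro _ ⟨i, rfl⟩
    refine ⟨Pi.single i (Submodule.Quotient.mk 1), ?_⟩
    simp only [F, LinearMap.sum_apply, LinearMap.comp_apply, LinearMap.proj_apply]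
    rw [Finset.sum_eq_single i]
    · rw [Pi.single_eq_same, Submodule.liftQ_apply, LinearMap.toSpanSingleton_apply, one_smul]
    · intro j _ hj
      rw [Pi.single_eq_of_ne hj, map_zero]
    · intro hi
      exact absurd (Finset.mem_univ i) hi
  haveI : IsArtinian R M := isArtinian_of_surjective _ F hF
  exact Module.length_ne_top_iff.2 (isFiniteLength_iff_isNoetherian_isArtinian.2
    ⟨isNoetherian_of_isNoetherianRing_of_finite R M, inferInstance⟩)

variable {A : Type u} [CommRing A] [IsDomain A] [Algebra R A] [Module.Finite R A]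

/-- Multiplication by an element, as a map over the base. -/
def mulMap (π : A) (M : Type u) [AddCommGroup M] [Module A M] :
    letI : Module R M := Module.compHom M (algebraMap R A)
    M →ₗ[R] M :=
  letI : Module R M := Module.compHom M (algebraMap R A)
  { toFun := fun x => π • x
    map_add' := smul_add π
    map_smul' := fun c x => smul_comm π (algebraMap R A c) x }

/-- The statement of the Euler characteristic formula for one module. -/
def Formula (π : A) (M : Type u) [AddCommGroup M] [Module A M] : Prop :=
  letI : Module R M := Module.compHom M (algebraMap R A)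
  IntThLib.EulerFin (mulMap (R := R) π M) ∧
    (Module.finrank R A : ℤ) * IntThLib.eul (mulMap (R := R) π M) =
      ((Module.length R (A ⧸ LinearMap.range (LinearMap.mulLeft R π))).toNat : ℤ) * (Module.finrank R M : ℤ)

theorem formula (hinj : Function.Injective (algebraMap R A)) {π : A} (hπ : π ≠ 0)
    (M : Type u) [AddCommGroup M] [Module A M] [hM : Module.Finite A M] : Formula (R := R) π M := by
  haveI : IsNoetherianRing A := IsNoetherianRing.of_finite R A
  haveI : Algebra.IsIntegral R A := Algebra.IsIntegral.of_finite R A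
  have hkill : ∀ q : Ideal A, q ≠ ⊥ → ∃ a : R, a ≠ 0 ∧ algebraMap R A a ∈ q := fun q hq => by
    obtain ⟨a, ha, ha0⟩ := Submodule.exists_mem_ne_zero_of_ne_bot
      (fun h => hq (Ideal.eq_bot_of_comap_eq_bot (R := R) h) : q.comap (algebraMap R A) ≠ ⊥)
    exact ⟨a, ha0, ha⟩
  have hlen : Module.length R (A ⧸ LinearMap.range (LinearMap.mulLeft R π)) ≠ ⊤ := by
    obtain ⟨a, ha, hab⟩ := hkill (Ideal.span {π}) (by simpa using hπ)
    refine (finite_length_of_smul_zero (R := R) ha fun x => ?_).1
    obtain ⟨x, rfl⟩ := Submodule.Quotient.mk_surjective _ x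
    rw [← Submodule.Quotient.mk_smul, Submodule.Quotient.mk_eq_zero, Algebra.smul_def]
    obtain ⟨c, hc⟩ := Ideal.mem_span_singleton'.1 hab
    exact ⟨c * x, by rw [LinearMap.mulLeft_apply, ← hc]; ring⟩
  induction hM using IsNoetherianRing.induction_on_isQuotientEquivQuotientPrime A with
  | subsingleton N =>
    letI : Module R N := Module.compHom N (algebraMap R A)
    obtain ⟨a, b⟩ := IntThLib.euler_of_finite_length (mulMap (R := R) π N)
      (by rw [Module.length_eq_zero]; exact ENat.zero_ne_top)
    exact ⟨a, by rw [b, Module.finrank_zero_of_subsingleton (R := R) (M := N)]; simp⟩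
  | exact N₁ N₂ N₃ i p hi hp hex h₁ h₃ =>
    letI : Module R N₁ := Module.compHom N₁ (algebraMap R A)
    letI : Module R N₂ := Module.compHom N₂ (algebraMap R A)
    letI : Module R N₃ := Module.compHom N₃ (algebraMap R A)
    haveI : IsScalarTower R A N₂ := IsScalarTower.of_algebraMap_smul fun _ _ => rfl
    haveI : Module.Finite R N₂ := Module.Finite.trans A N₂
    let i' : N₁ →ₗ[R] N₂ := ⟨⟨i, map_add i⟩, fun c x => map_smul i (algebraMap R A c) x⟩
    let p' : N₂ →ₗ[R] N₃ := ⟨⟨p, map_add p⟩, fun c x => map_smul p (algebraMap R A c) x⟩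
    obtain ⟨a1, c1⟩ := h₁
    obtain ⟨a3, c3⟩ := h₃
    have hex' : Function.Exact i' p' := hex
    obtain ⟨a2, c2⟩ := IntThLib.euler_additive (i := i') (π := p') hi hp hex'
      (f' := mulMap (R := R) π N₁) (f := mulMap (R := R) π N₂) (f'' := mulMap (R := R) π N₃)
      (LinearMap.ext fun v => map_smul i π v) (LinearMap.ext fun v => map_smul p π v) a1 a3
    refine ⟨a2, ?_⟩
    have h := (LinearMap.range i').finrank_quotient_add_finrank
    rw [LinearMap.finrank_range_of_inj (f := i') hi,
      ((Submodule.quotEquivOfEq _ _ (LinearMap.exact_iff.1 hex').symm).trans (p'.quotKerEquivOfSurjective hp)).finrank_eq] at h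
    rw [c2, mul_add, c1, c3, ← h]
    push_cast
    ring
  | quotient N q e =>
    letI : Module R N := Module.compHom N (algebraMap R A)
    haveI : IsScalarTower R A N := IsScalarTower.of_algebraMap_smul fun _ _ => rfl
    haveI : Module.Finite A N := Module.Finite.equiv e.symm
    haveI : Module.Finite R N := Module.Finite.trans A N
    by_cases hq : q.asIdeal = ⊥
    · let e' : N ≃ₗ[R] A := (e.trans (Submodule.quotEquivOfEqBot _ hq)).restrictScalars R
      obtain ⟨h1, h2⟩ := IntThLib.eul_of_injective (LinearMap.mulLeft R π) (mul_right_injective₀ hπ)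
      obtain ⟨a, b⟩ := IntThLib.euler_of_equiv e' (mulMap (R := R) π N) (LinearMap.mulLeft R π)
        (LinearMap.ext fun v => map_smul (e.trans (Submodule.quotEquivOfEqBot _ hq)) π v)
        ⟨hlen, by rw [h2]; exact ENat.zero_ne_top⟩
      refine ⟨a, ?_⟩
      rw [b, h1, e'.finrank_eq, mul_comm]
    · obtain ⟨a, ha, haq⟩ := hkill _ hq
      obtain ⟨hl, hr⟩ := finite_length_of_smul_zero (R := R) (M := N) ha fun x => by
        refine e.injective ?_
        obtain ⟨y, hy⟩ := Submodule.Quotient.mk_surjective _ (e x)
        show e (algebraMap R A a • x) = e 0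
        rw [map_smul, ← hy, ← Submodule.Quotient.mk_smul, map_zero, Submodule.Quotient.mk_eq_zero]
        exact q.asIdeal.mul_mem_right y haq
      obtain ⟨b, c⟩ := IntThLib.euler_of_finite_length (mulMap (R := R) π N) hl
      exact ⟨b, by rw [c, hr]; simp⟩

/-- The length of the quotient by a non-unit is positive. -/
theorem length_pos (hinj : Function.Injective (algebraMap R A)) {π : A} (hπ : π ≠ 0) (hu : ¬ IsUnit π) :
    0 < (Module.length R (A ⧸ LinearMap.range (LinearMap.mulLeft R π))).toNat := by
  haveI : Algebra.IsIntegral R A := Algebra.IsIntegral.of_finite R A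
  have hfin : Module.length R (A ⧸ LinearMap.range (LinearMap.mulLeft R π)) ≠ ⊤ := by
    obtain ⟨a, ha, ha0⟩ := Submodule.exists_mem_ne_zero_of_ne_bot
      (fun h => (by simpa using hπ : Ideal.span {π} ≠ ⊥) (Ideal.eq_bot_of_comap_eq_bot (R := R) h) :
        (Ideal.span {π}).comap (algebraMap R A) ≠ ⊥)
    refine (finite_length_of_smul_zero (R := R) ha0 fun x => ?_).1
    obtain ⟨x, rfl⟩ := Submodule.Quotient.mk_surjective _ x
    rw [← Submodule.Quotient.mk_smul, Submodule.Quotient.mk_eq_zero, Algebra.smul_def]
    obtain ⟨c, hc⟩ := Ideal.mem_span_singleton'.1 ha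
    exact ⟨c * x, by rw [LinearMap.mulLeft_apply, ← hc]; ring⟩
  rw [pos_iff_ne_zero]
  intro h
  rw [ENat.toNat_eq_zero, or_iff_left hfin, Module.length_eq_zero_iff, Submodule.Quotient.subsingleton_iff] at h
  obtain ⟨c, hc⟩ := (h ▸ Submodule.mem_top : (1 : A) ∈ LinearMap.range (LinearMap.mulLeft R π))
  exact hu (IsUnit.of_mul_eq_one c hc)

end Groth.Agent.H26.Adjunction.EulMul
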