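import Groth.Agent.H26.Adjunction.Vertical
import Groth.Agent.H26.ExcCrit
import Groth.Agent.Synt29.PnConst

/-!
# Exceptional curves and the canonical sheaf
-/

noncomputable section

set_option autoImplicit false
set_option linter.style.haveILetI false
set_option linter.unusedSectionVars false
set_option backward.isDefEq.respectTransparency false
set_option backward.isDefEq.respectTransparency.types false
set_option maxHeartbeats 1000000

universe u

open CategoryTheory CategoryTheory.Limits AlgebraicGeometry TopologicalSpace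
open Groth.Agent.H23 Groth.Agent.H28
open scoped Groth.Agent.H23.PicMul

namespace Groth.Agent.H26.Adjunction

open Groth.Agent

variable {R : Type u} [CommRing R] [IsDomain R] [IsDiscreteValuationRing R] {X : Over (Spec (CommRingCat.of R))}
  (hX : ArSurf.IsArithSurface R X)

/-- The predicate "projective line over a finite extension of the residue field", with its degree. -/
def IsLineOfDeg (E : ArSurf.VertComp R X) (d : ℤ) : Prop :=
  ∃ (k' : Type u) (_ : Field k') (_ : Algebra (IsLocalRing.ResidueField R) k'),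
    FiniteDimensional (IsLocalRing.ResidueField R) k' ∧
    ∃ e : E.curve.left ≅ CohB1.ProjSpace 1 k',
      e.hom ≫ (CohB1.ProjSpace 1 k' ↘ Spec (CommRingCat.of k')) ≫
          Spec.map (CommRingCat.ofHom (algebraMap (IsLocalRing.ResidueField R) k')) = E.curve.hom ∧
        d = (Module.finrank (IsLocalRing.ResidueField R) k' : ℤ)

include hX in
theorem invariants_of_isLine {E : ArSurf.VertComp R X} {d : ℤ} (h : IsLineOfDeg E d) :
    Models.h1 R X E = 0 ∧ d = (Models.wdeg R X E : ℤ) := by
  obtain ⟨k', _, _, hfin, e, he, hd⟩ := h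
  haveI := isProper_hom hX
  haveI := hfin
  haveI := E.isIntegral
  haveI := ArInter.isProper_curve E
  let k := IsLocalRing.ResidueField R
  let Y := E.curve.left
  obtain ⟨htw, -, ⟨e0⟩⟩ := ExcCrit.twist_facts k'
  have hs1 : Subsingleton (Coh.HH Y (Coh.structureModule Y) 1) := by
    refine ExcCrit.subsingleton_HH_of_pullback e.symm QCoh.isQCoh_structureModule 1 ?_
    obtain ⟨o⟩ := PicClLib.nonempty_pullback_structureModule e.symm.hom
    haveI : Subsingleton (Coh.HH (CohB1.ProjSpace 1 k') (Twist.twistProjSpace 1 k' 0) 1) :=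
      S0844.result k' 1 0 1 (by omega) (by omega)
    exact QCoh.subsingleton_HH_of_iso (o ≪≫ e0.symm).symm 1 inferInstance
  refine ⟨by haveI := hs1; exact Module.finrank_zero_of_subsingleton, hd.trans ?_⟩
  show _ = (Module.finrank k (Coh.HH Y (Coh.structureModule Y) 0) : ℤ)
  rw [GeomField.finrank_HH_zero]
  letI := GeomField.globalAlgebra k Y
  haveI : IsIso (CohB1.ProjSpace.toSpec 1 k').appTop := Synt29.PnConst.isIso_toSpec_appTop 1
  let φ : CommRingCat.of k' ⟶ Γ(Y, ⊤) :=
    (Scheme.ΓSpecIso (CommRingCat.of k')).inv ≫ (e.hom ≫ CohB1.ProjSpace.toSpec 1 k').appTop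
  haveI : IsIso φ := by
    show IsIso (_ ≫ (e.hom ≫ CohB1.ProjSpace.toSpec 1 k').appTop)
    rw [Scheme.Hom.comp_appTop]
    infer_instance
  have hcomm : ∀ c : k, φ (algebraMap k k' c) = algebraMap k Γ(Y, ⊤) c := fun c => by
    show (e.hom ≫ CohB1.ProjSpace.toSpec 1 k').appTop
      ((Scheme.ΓSpecIso (CommRingCat.of k')).inv (algebraMap k k' c)) =
      E.curve.hom.appTop ((Scheme.ΓSpecIso (CommRingCat.of k)).inv c)
    rw [← he]
    refine Eq.trans ?_ (congrArg (e.hom ≫ CohB1.ProjSpace.toSpec 1 k').appTop (ConcreteCategory.congr_hom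
      (Scheme.ΓSpecIso_inv_naturality (CommRingCat.ofHom (algebraMap k k'))) c))
    rfl
  let eA : k' ≃ₗ[k] Γ(Y, ⊤) :=
    LinearEquiv.ofBijective
      { toFun := fun x => φ x
        map_add' := fun x y => map_add φ.hom x y
        map_smul' := fun c x => by
          rw [RingHom.id_apply, Algebra.smul_def, Algebra.smul_def]
          exact (map_mul φ.hom _ _).trans (congrArg (· * _) (hcomm c)) }
      (ConcreteCategory.bijective_of_isIso φ)
  exact_mod_cast eA.finrank_eq

/-- The field of constants, as a finite extension. -/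
theorem exists_constants' (k : Type u) [Field k] (Y : Scheme.{u}) [Y.Over (Spec (CommRingCat.of k))]
    [IsProper (Y ↘ Spec (CommRingCat.of k))] [IsIntegral Y] :
    ∃ (K : Type u) (_ : Field K) (_ : Algebra k K) (o : Y.Over (Spec (CommRingCat.of K))), IsProper o.hom ∧
      Module.finrank k K = Module.finrank k (Coh.HH Y (Coh.structureModule Y) 0) ∧
      o.hom ≫ Spec.map (CommRingCat.ofHom (algebraMap k K)) = (Y ↘ Spec (CommRingCat.of k)) ∧
      ∀ (M : Y.Modules) (i : ℕ), Module.finrank k (Coh.HH Y M i) =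
        Module.finrank k (Coh.HH Y (Coh.structureModule Y) 0) *
          (letI := o; @Module.finrank K (Coh.HH Y M i) _ _ (Coh.moduleOver K Y M i)) := by
  haveI : Nonempty (⊤ : Y.Opens) := ⟨⟨genericPoint Y, trivial⟩⟩
  have hfac : Y.toSpecΓ ≫ Spec.map ((Scheme.ΓSpecIso (CommRingCat.of k)).inv ≫
      (Y ↘ Spec (CommRingCat.of k)).appTop) = (Y ↘ Spec (CommRingCat.of k)) := by
    rw [Spec.map_comp, ← Scheme.toSpecΓ_naturality_assoc, ← SpecMap_ΓSpecIso_hom, ← Spec.map_comp, Iso.inv_hom_id,
      Spec.map_id, Category.comp_id]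
  refine ⟨Γ(Y, ⊤), (GeomField.isField_globalFunctions k Y).toField, GeomField.globalAlgebra k Y, ⟨Y.toSpecΓ⟩, ?_,
    (GeomField.finrank_HH_zero k Y).symm, hfac, fun M i => ExcCrit.finrank_tower k Y M i⟩
  haveI : IsProper (Y.toSpecΓ ≫ Spec.map ((Scheme.ΓSpecIso (CommRingCat.of k)).inv ≫
      (Y ↘ Spec (CommRingCat.of k)).appTop)) := by
    rw [hfac]
    infer_instance
  exact IsProper.of_comp Y.toSpecΓ (Spec.map ((Scheme.ΓSpecIso (CommRingCat.of k)).inv ≫
    (Y ↘ Spec (CommRingCat.of k)).appTop))

include hX in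
theorem isLine_of_invariants {E : ArSurf.VertComp R X} {L : X.left.Modules}
    (hL : ClSub.IsInverseOf L (ClSub.idealMod E.ι.ker)) (h1 : Models.h1 R X E = 0)
    (hin : ArSurf.inter R X L E = -(Models.wdeg R X E : ℤ)) :
    IsLineOfDeg E (Models.wdeg R X E : ℤ) := by
  haveI := isProper_hom hX
  haveI := E.isIntegral
  have heff := heff_vert hX E
  let k := IsLocalRing.ResidueField R
  let Y := E.curve.left
  haveI : IsProper (E.curve.left ↘ Spec (CommRingCat.of k)) := ArInter.isProper_curve E
  haveI := CurveCohLib.isNoetherian_of_proper (k := k) (X := Y)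
  let I := ClSub.idealMod E.ι.ker
  let A := (Scheme.Modules.pullback E.ι).obj I
  have hI : PicF.IsInvertible I := IdealCl.isInvertible_idealMod heff
  have hAi : PicF.IsInvertible A := PicClLib.isInvertible_pullback E.ι hI
  have hLi : PicF.IsInvertible L := ArInter.isInvertible_of_inverse hI hL
  have hdegk : FGA.eulerCharLE k Y A 1 - FGA.eulerCharLE k Y (Coh.structureModule Y) 1 =
      (Models.wdeg R X E : ℤ) := by
    have h := ArInter.inter_congr E (PicMul.isInvertible_tensor hLi hI) (M := Coh.structureModule X.left)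
      (PicMul.cl_eq_iff.2 hL)
    rw [ArInter.inter_tensor E hLi hI, ArInter.inter_structure, hin] at h
    show ArSurf.inter R X I E = _
    linarith
  have hw0 : 0 < Models.wdeg R X E := WDeg.wdeg_pos E
  have hwne : (Models.wdeg R X E : ℤ) ≠ 0 := Int.natCast_ne_zero.2 hw0.ne'
  obtain ⟨K, instK, algK, o, hprop, hfin, hfac, htow⟩ := exists_constants' k Y
  letI := instK
  letI := algK
  letI := o
  haveI : IsProper (Y ↘ Spec (CommRingCat.of K)) := hprop
  have hmul : ∀ (M : Y.Modules) (i : ℕ), (Module.finrank k (Coh.HH Y M i) : ℤ) =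
      (Models.wdeg R X E : ℤ) * (Module.finrank K (Coh.HH Y M i) : ℤ) :=
    fun M i => by rw [htow M i, Nat.cast_mul]; rfl
  have e0 : Module.finrank K (Coh.HH Y (Coh.structureModule Y) 0) = 1 := by
    have h := hmul (Coh.structureModule Y) 0
    rw [show Module.finrank k (Coh.HH Y (Coh.structureModule Y) 0) = Models.wdeg R X E from rfl] at h
    exact_mod_cast mul_left_cancel₀ hwne (h.symm.trans (mul_one _).symm)
  have e1 : Module.finrank K (Coh.HH Y (Coh.structureModule Y) 1) = 0 := by
    have h := hmul (Coh.structureModule Y) 1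
    rw [show Module.finrank k (Coh.HH Y (Coh.structureModule Y) 1) = 0 from h1, Nat.cast_zero, eq_comm,
      mul_eq_zero, or_iff_right hwne] at h
    exact_mod_cast h
  haveI := CurveCohLib.isNoetherian_of_proper (k := K) (X := Y)
  have hd : Curv2.deg K Y A 1 = (1 : ℕ) := by
    unfold Curv2.deg
    rw [CurveRR.euler_eq_h0_sub_h1 (k := K) (X := Y) E.dim_eq.le (AmpleVan.isCoh_invertible hAi).1,
      CurveRR.euler_eq_h0_sub_h1 (k := K) (X := Y) E.dim_eq.le (QCoh.isQCoh_structureModule (X := Y)), e0, e1]
    refine mul_left_cancel₀ hwne ?_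
    simp only [FGA.eulerCharLE, Finset.sum_range_succ, Finset.sum_range_zero] at hdegk
    rw [show Module.finrank k (Coh.HH Y (Coh.structureModule Y) 1) = 0 from h1,
      show Module.finrank k (Coh.HH Y (Coh.structureModule Y) 0) = Models.wdeg R X E from rfl] at hdegk
    push_cast at hdegk ⊢
    rw [hmul, hmul] at hdegk
    linarith
  obtain ⟨i, hi, hi2, -⟩ := S1636.result K Y E.dim_eq e0 e1 A hAi 1 one_pos hd
  haveI := hi
  haveI : IsIso i := CurveEmbed.isIso_of_closedImmersion_line K E.dim_eq i
  refine ⟨K, inferInstance, algK, ?_, asIso i, ?_, ?_⟩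
  · haveI := CurveCohLib.finite_HH (k := k) (X := Y) QCoh.isCoh_structureModule' 0
    exact Module.finite_of_finrank_pos (by
      rw [hfin]
      exact hw0)
  · show i ≫ CohB1.ProjSpace.toSpec 1 K ≫ _ = _
    rw [← Category.assoc, hi2]
    exact hfac
  · exact_mod_cast hfin.symm

include hX in
theorem invariants_of_neg {E : ArSurf.VertComp R X} {L : X.left.Modules}
    (hL : ClSub.IsInverseOf L (ClSub.idealMod E.ι.ker)) {ω : X.left.Modules} (hω : Canon.IsCanonical X.hom ω)
    (hK : ArSurf.inter R X ω E < 0) (hE : ArSurf.inter R X L E < 0) :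
    Models.h1 R X E = 0 ∧ ArSurf.inter R X L E = -(Models.wdeg R X E : ℤ) ∧
      ArSurf.inter R X ω E = -(Models.wdeg R X E : ℤ) := by
  have hadj := inter_add_inter hX E L hL ω hω
  have hLi : PicF.IsInvertible L :=
    ArInter.isInvertible_of_inverse (IdealCl.isInvertible_idealMod (heff_vert hX E)) hL
  haveI := isProper_hom hX
  have hs : Subsingleton (Coh.HH E.curve.left (Coh.structureModule E.curve.left) 1) :=
    subsingleton_H1 hX E InvX.isInvertible_structureModule (by
      rw [show ArSurf.curveDeg (IsLocalRing.ResidueField R) E.curve.left (Coh.structureModule E.curve.left) = 0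
        from sub_self _]
      linarith)
  have h1 : Models.h1 R X E = 0 := by
    haveI := hs
    exact Module.finrank_zero_of_subsingleton
  rw [EulerFibre.wdeg_sub_h1, h1, Nat.cast_zero, sub_zero] at hadj
  have a := Int.le_of_dvd (neg_pos.2 hK) (dvd_neg.2 (WDeg.wdeg_dvd_inter E (isInvertible_of_isCanonical hω)))
  have b := Int.le_of_dvd (neg_pos.2 hE) (dvd_neg.2 (WDeg.wdeg_dvd_inter E hLi))
  exact ⟨h1, by omega, by omega⟩

include hX in
theorem exceptional_iff {E : ArSurf.VertComp R X} {L : X.left.Modules}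
    (hL : ClSub.IsInverseOf L (ClSub.idealMod E.ι.ker)) {ω : X.left.Modules} (hω : Canon.IsCanonical X.hom ω) :
    IsLineOfDeg E (-ArSurf.inter R X L E) ↔ (ArSurf.inter R X ω E < 0 ∧ ArSurf.inter R X L E < 0) := by
  constructor
  · intro h
    obtain ⟨h1, hd⟩ := invariants_of_isLine hX h
    have hadj := inter_add_inter hX E L hL ω hω
    rw [EulerFibre.wdeg_sub_h1, h1, Nat.cast_zero, sub_zero] at hadj
    haveI := isProper_hom hX
    have hw := WDeg.wdeg_pos E
    constructor <;> omega
  · rintro ⟨hK, hE⟩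
    obtain ⟨h1, hLE, -⟩ := invariants_of_neg hX hL hω hK hE
    rw [hLE, neg_neg]
    exact isLine_of_invariants hX hL h1 hLE

end Groth.Agent.H26.Adjunction
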