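import Groth.Agent.H26.FibreSeq
import Groth.Agent.H26.FibreIdeal
import Groth.Agent.RegUFD.Basic

/-!
# The divisor of a global function
-/

noncomputable section

set_option autoImplicit false
set_option linter.style.haveILetI false
set_option linter.unusedSectionVars false
set_option backward.isDefEq.respectTransparency false
set_option backward.isDefEq.respectTransparency.types false
set_option maxHeartbeats 1000000

universe u

open CategoryTheory CategoryTheory.Limits AlgebraicGeometry TopologicalSpace Opposite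

namespace Groth.Agent.H26.Adjunction.Principal

open Groth.Agent

variable {X : Scheme.{u}}

/-- The restriction of a global function. -/
def res (π : Γ(X, ⊤)) (U : X.Opens) : Γ(X, U) := X.presheaf.map (homOfLE (le_top : U ≤ ⊤)).op π

/-- The ideal sheaf of a global function. -/
def princ (π : Γ(X, ⊤)) : X.IdealSheafData :=
  (Curv2.idealSheaf Γ(X, ⊤) (Ideal.span {π})).comap X.toSpecΓ

theorem princ_ideal (π : Γ(X, ⊤)) (U : X.affineOpens) : (princ π).ideal U = Ideal.span {res π U.1} := by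
  rw [princ, ModPairLib.ideal_comap _ X.toSpecΓ ⟨⊤, isAffineOpen_top _⟩ U (by simp)]
  simp only [Curv2.idealSheaf, Scheme.IdealSheafData.ofIdealTop_ideal, Ideal.map_span, Set.image_singleton]
  congr 2
  have h : X.toSpecΓ.appTop ((Scheme.ΓSpecIso Γ(X, ⊤)).inv π) = π := by
    rw [Scheme.toSpecΓ_appTop, ← CommRingCat.comp_apply, Iso.inv_hom_id]
    rfl
  refine Eq.trans ?_ (congrArg (X.presheaf.map (homOfLE (le_top : U.1 ≤ ⊤)).op) h)
  simp only [Scheme.Hom.appLE, Scheme.Hom.appTop]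
  rfl

theorem notMem_iff {π : Γ(X, ⊤)} {U : X.Opens} (hU : IsAffineOpen U) (x : X) (hx : x ∈ U) :
    x ∈ X.basicOpen π ↔ res π U ∉ (hU.primeIdealOf ⟨x, hx⟩).asIdeal := by
  have e2 : X.basicOpen (res π U) = U ⊓ X.basicOpen π := X.basicOpen_res _ _
  rw [← QCoh.mem_basicOpen_iff_notMem hU hx, e2]
  exact ⟨fun h => ⟨hx, h⟩, fun h => h.2⟩

variable [IsIntegral X]

theorem res_mem_nonZeroDivisors {π : Γ(X, ⊤)} (hπ : π ≠ 0) {U : X.Opens} (hU : IsAffineOpen U) :
    res π U ∈ nonZeroDivisors Γ(X, U) := by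
  rcases isEmpty_or_nonempty ↥U with h | h
  · haveI : Subsingleton Γ(X, U) := by
      rw [show U = ⊥ from SetLike.coe_injective (Set.eq_empty_iff_forall_notMem.2 fun x hx => h.false ⟨x, hx⟩)]
      infer_instance
    exact mem_nonZeroDivisors_iff_right.2 fun z _ => Subsingleton.elim _ _
  · haveI : Nonempty ↥U.toScheme := ⟨⟨h.some.1, h.some.2⟩⟩
    haveI : IsDomain Γ(X, U) := @IsIntegral.component_integral _ _ U ‹_›
    refine mem_nonZeroDivisors_of_ne_zero fun h0 => hπ ?_
    haveI : Nonempty ↥(⊤ : X.Opens) := ⟨⟨h.some.1, trivial⟩⟩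
    exact map_injective_of_isIntegral X (homOfLE (le_top : U ≤ ⊤)) (h0.trans (map_zero _).symm)

theorem isEffCartier (π : Γ(X, ⊤)) (hπ : π ≠ 0) : BlowUp.IsEffCartierIdeal (princ π) := fun x => by
  obtain ⟨U, hU, hxU, -⟩ := exists_isAffineOpen_mem_and_subset (x := x) (U := ⊤) trivial
  exact ⟨⟨U, hU⟩, hxU, res π U, res_mem_nonZeroDivisors hπ hU, princ_ideal π ⟨U, hU⟩⟩

/-- Multiplication by a global function. -/
def mulSect (π : Γ(X, ⊤)) : Coh.structureModule X ⟶ Coh.structureModule X :=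
  QCoh.homOfTop (P := Coh.structureModule X) (OmegaSh.strSect X ⊤ π)

theorem mulSect_app (π : Γ(X, ⊤)) (U : X.Opens) (s : Γ(X, U)) :
    (mulSect π).app U (OmegaSh.strSect X U s) = OmegaSh.strSect X U (s * res π U) :=
  QCoh.homOfTop_app (P := Coh.structureModule X) _ s

theorem toAb_mulSect (π : Γ(X, ⊤)) :
    (QCoh.toAbFunctor X).map (mulSect π) = Coh.smulAb (Coh.structureModule X) π := by
  ext U m
  exact (mulSect_app π U.unop m).trans
    (mul_comm (show Γ(X, U.unop) from m) (res π U.unop))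

theorem shortExact {π : Γ(X, ⊤)} (hπ : π ≠ 0) :
    (∃ hz : mulSect π ≫ ClSub.toSubscheme (princ π) = 0,
      (ShortComplex.mk (mulSect π) (ClSub.toSubscheme (princ π)) hz).ShortExact) ∧
      Nonempty (Coh.structureModule X ≅ ClSub.idealMod (princ π)) := by
  have happ : ∀ (U : X.Opens) (s : Γ(Coh.structureModule X, U)),
      OmegaSh.fnSect X U ((mulSect π).app U s) = OmegaSh.fnSect X U s * res π U :=
    fun U s => congrArg (OmegaSh.fnSect X U) (mulSect_app π U (OmegaSh.fnSect X U s))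
  haveI : Mono (mulSect π) := by
    have hinj : ∀ U : X.Opens, Function.Injective ((mulSect π).app U) := fun U => by
      refine (injective_iff_map_eq_zero _).2 fun s hs => AModX.eq_of_locally (M := Coh.structureModule X) _ _ fun p hp => ?_
      obtain ⟨_, ⟨A, hA, rfl⟩, hpA, hAU⟩ :=
        X.isBasis_affineOpens.exists_subset_of_mem_open (show p ∈ (U : X.Opens) from hp) U.2
      refine ⟨A, hAU, hpA, ?_⟩
      have h1 := congrArg (OmegaSh.fnSect X A) (AModX.app_res (mulSect π) hAU s)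
      rw [hs, map_zero, map_zero, happ] at h1
      rw [map_zero]
      exact mem_nonZeroDivisors_iff_right.1 (res_mem_nonZeroDivisors hπ hA) _ h1
    exact ⟨fun g h w => by
      apply Scheme.Modules.hom_ext
      intro W
      ext b
      exact hinj W (congrArg (fun ψ => Scheme.Modules.Hom.app ψ W b) w)⟩
  obtain ⟨e, he⟩ := IdealCl.exists_iso_of_range (mulSect π) (princ π) fun U => by
    rw [princ_ideal π U]
    ext x
    refine ⟨?_, fun hx => ?_⟩
    · rintro ⟨s, rfl⟩
      exact Ideal.mem_span_singleton'.2 ⟨_, (happ U.1 s).symm⟩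
    · obtain ⟨c, rfl⟩ := Ideal.mem_span_singleton'.1 hx
      exact ⟨OmegaSh.strSect X U.1 c, happ U.1 _⟩
  have hz : mulSect π ≫ ClSub.toSubscheme (princ π) = 0 := by
    rw [← he, Category.assoc, show ClSub.idealModι (princ π) ≫
      ClSub.toSubscheme (princ π) = 0 from kernel.condition _, comp_zero]
  refine ⟨⟨hz, ShortComplex.shortExact_of_iso ?_ (DivisorExt.ideal_shortExact (princ π))⟩, ⟨e⟩⟩
  exact ShortComplex.isoMk e.symm (Iso.refl _) (Iso.refl _) (by simp [← he]) (by simp)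

/-- A function vanishing exactly on an integral divisor cuts out a power of it. -/
theorem princ_eq_pow [IsLocallyNoetherian X] (hreg : ∀ x : X, IsRegularLocalRing (X.presheaf.stalk x))
    {E : Scheme.{u}} [IsIntegral E] (ι : E ⟶ X) [IsClosedImmersion ι]
    (hη : ringKrullDim (X.presheaf.stalk (ι (genericPoint E))) = 1) {π : Γ(X, ⊤)} (hπ : π ≠ 0)
    (hloc : ∀ x : X, x ∈ Set.range ι.base ↔ x ∉ X.basicOpen π) : ∃ m : ℕ, princ π = ι.ker ^ m := by
  set η := ι (genericPoint E) with hηdef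
  refine ⟨(Module.length (X.presheaf.stalk η) (X.presheaf.stalk η ⧸
    Ideal.span {X.presheaf.germ ⊤ η trivial π})).toNat, Scheme.IdealSheafData.ext (funext fun U => ?_)⟩
  haveI : IsNoetherianRing Γ(X, U.1) := IsLocallyNoetherian.component_noetherian U
  rw [princ_ideal π U]
  generalize hm : (Module.length (X.presheaf.stalk η) (X.presheaf.stalk η ⧸
    Ideal.span {X.presheaf.germ ⊤ η trivial π})).toNat = m
  have hpow : (ι.ker ^ m).ideal U = ι.ker.ideal U ^ m := by
    let F : X.IdealSheafData →* Ideal Γ(X, U.1) :=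
      { toFun := fun I => I.ideal U, map_one' := by simp, map_mul' := fun I J => rfl }
    exact map_pow F ι.ker m
  rw [hpow]
  have hpt : ∀ q : PrimeSpectrum Γ(X, U.1), ∃ h : U.2.fromSpec q ∈ U.1, U.2.primeIdealOf ⟨_, h⟩ = q := fun q => by
    have hqU : U.2.fromSpec q ∈ U.1 := by
      have : U.2.fromSpec q ∈ Set.range U.2.fromSpec := ⟨q, rfl⟩
      rwa [U.2.range_fromSpec] at this
    exact ⟨hqU, U.2.fromSpec.isOpenEmbedding.injective (U.2.fromSpec_primeIdealOf ⟨_, hqU⟩)⟩
  have hcov : ∀ q : PrimeSpectrum Γ(X, U.1), res π U.1 ∈ q.asIdeal →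
      ∃ h : η ∈ U.1, (U.2.primeIdealOf ⟨η, h⟩).asIdeal ≤ q.asIdeal := fun q hq => by
    obtain ⟨hqU, hqe⟩ := hpt q
    have hmem : U.2.fromSpec q ∈ Set.range ι.base := (hloc _).2 fun hb =>
      (notMem_iff U.2 _ hqU).1 hb (by rw [hqe]; exact hq)
    obtain ⟨z, hz⟩ := hmem
    have hsp : η ⤳ U.2.fromSpec q := hz ▸ (genericPoint_specializes z).map ι.continuous
    refine ⟨hsp.mem_open U.1.2 hqU, (PrimeSpectrum.le_iff_specializes _ q).2
      (U.2.fromSpec.isOpenEmbedding.isInducing.specializes_iff.1 ?_)⟩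
    exact (U.2.fromSpec_primeIdealOf ⟨η, hsp.mem_open U.1.2 hqU⟩).symm ▸ hsp
  have hπη : ∀ h : η ∈ U.1, res π U.1 ∈ (U.2.primeIdealOf ⟨η, h⟩).asIdeal := fun h => by
    by_contra hn
    exact (hloc η).1 ⟨_, rfl⟩ ((notMem_iff U.2 η h).2 hn)
  have hmin : ∀ h : η ∈ U.1, (U.2.primeIdealOf ⟨η, h⟩).asIdeal ∈ (Ideal.span {res π U.1}).minimalPrimes :=
    fun h => ⟨⟨inferInstance, (Ideal.span_singleton_le_iff_mem _).2 (hπη h)⟩, fun Q hQ hQle => by
      obtain ⟨h', hle⟩ := hcov ⟨Q, hQ.1⟩ ((Ideal.span_singleton_le_iff_mem _).1 hQ.2)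
      exact hle⟩
  have key := IdealFactor.span_eq_prod (A := Γ(X, U.1)) (fun q _ => ?_) _ (res_mem_nonZeroDivisors hπ U.2)
    (fun _ : Unit => ι.ker.ideal U) (fun _ => ?_) (fun _ _ _ _ => rfl) (fun Q hQ => ?_) (fun _ => m) fun _ _ => ?_
  · simpa using key
  · let p : PrimeSpectrum Γ(X, U.1) := ⟨q, inferInstance⟩
    obtain ⟨hqU, hq⟩ := hpt p
    letI := TopCat.Presheaf.algebra_section_stalk X.presheaf (⟨U.2.fromSpec p, hqU⟩ : U.1)
    haveI : IsLocalization.AtPrime (X.presheaf.stalk (U.2.fromSpec p)) q := by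
      have := U.2.isLocalization_stalk ⟨U.2.fromSpec p, hqU⟩
      simp only [hq] at this
      exact this
    let e := (IsLocalization.algEquiv q.primeCompl (X.presheaf.stalk (U.2.fromSpec p)) (Localization.AtPrime q)).toRingEquiv
    haveI := hreg (U.2.fromSpec p)
    obtain ⟨hd, hu⟩ := RegUFD.ufd (X.presheaf.stalk (U.2.fromSpec p))
    exact ⟨e.symm.toMulEquiv.isDomain _, e.toMulEquiv.uniqueFactorizationMonoid hu⟩
  · rcases FibreIdeal.ker_ideal_cases ι U with ⟨-, h⟩ | ⟨h, e⟩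
    · exact Or.inl h
    · exact Or.inr (e ▸ hmin h)
  · obtain ⟨h, hle⟩ := hcov ⟨Q, hQ.1.1⟩ ((Ideal.span_singleton_le_iff_mem _).1 hQ.1.2)
    refine ⟨(), ?_⟩
    rcases FibreIdeal.ker_ideal_cases ι U with ⟨h', -⟩ | ⟨h', e⟩
    · exact absurd h h'
    · exact e.trans (le_antisymm hle (hQ.2 (hmin h).1 hle))
  · rcases FibreIdeal.ker_ideal_cases ι U with ⟨-, h⟩ | ⟨h, e⟩
    · exact absurd h (Ideal.IsPrime.ne_top inferInstance)
    letI := TopCat.Presheaf.algebra_section_stalk X.presheaf (⟨η, h⟩ : U.1)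
    haveI := U.2.isLocalization_stalk ⟨η, h⟩
    refine ⟨X.presheaf.stalk η, inferInstance, inferInstance, ?_, ?_⟩
    · simp only [e]; exact U.2.isLocalization_stalk ⟨η, h⟩
    have e2 : Ideal.span {X.presheaf.germ ⊤ η trivial π} =
        Ideal.span {algebraMap Γ(X, U.1) (X.presheaf.stalk η) (res π U.1)} := by
      congr 2
      exact (X.presheaf.germ_res_apply (homOfLE (le_top : U.1 ≤ ⊤)) η h _).symm
    rw [← hm, ← FibreIdeal.length_congr e2, ENat.natCast_toNat]
    haveI : IsDomain (X.presheaf.stalk η) := (@RegUFD.ufd _ _ (hreg η)).1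
    haveI : Ring.KrullDimLE 1 (X.presheaf.stalk η) := Ring.krullDimLE_iff.2 hη.le
    rw [FibreIdeal.length_congr e2]
    refine Module.length_ne_top_iff.2 (isFiniteLength_quotient_span_singleton _ ?_)
    refine mem_nonZeroDivisors_of_ne_zero fun h0 => ?_
    obtain ⟨c, hc⟩ := (IsLocalization.map_eq_zero_iff (U.2.primeIdealOf ⟨η, h⟩).asIdeal.primeCompl _ _).1 h0
    exact c.2 ((mem_nonZeroDivisors_iff_right.1 (res_mem_nonZeroDivisors hπ U.2) _ hc).symm ▸ Ideal.zero_mem _)

end Groth.Agent.H26.Adjunction.Principal
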