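import Groth.Agent.S0388
import Groth.Agent.H26.ArtinTriv.Henselian
import Groth.Agent.H26.FibreIdeal

/-!
# A function vanishing exactly on an isolated component of the closed fibre
-/

noncomputable section

set_option autoImplicit false
set_option linter.style.haveILetI false
set_option linter.unusedSectionVars false
set_option backward.isDefEq.respectTransparency false
set_option backward.isDefEq.respectTransparency.types false
set_option maxHeartbeats 1000000

universe u

open CategoryTheory CategoryTheory.Limits AlgebraicGeometry TopologicalSpace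

namespace Groth.Agent.H26.Adjunction.Vanishing

open Groth.Agent

variable {R : Type u} [CommRing R] [IsDomain R] [IsDiscreteValuationRing R]

/-- The separation of a point of an affine scheme from a closed subset. -/
theorem exists_separate {A : Type u} [CommRing A] (p : PrimeSpectrum A) (hp : p.asIdeal.IsMaximal)
    {T : Set (PrimeSpectrum A)} (hT : IsClosed T) (hpT : p ∉ T) :
    ∃ a ∈ p.asIdeal, ∀ q ∈ T, a ∉ q.asIdeal := by
  obtain ⟨s, rfl⟩ := (PrimeSpectrum.isClosed_iff_zeroLocus T).1 hT
  obtain ⟨t, hts, htp⟩ := Set.not_subset.1 hpT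
  obtain ⟨c, i, hi, hci⟩ := hp.exists_inv htp
  refine ⟨i, hi, fun q hq hiq => q.2.ne_top ((Ideal.eq_top_iff_one _).2 ?_)⟩
  rw [← hci]
  exact add_mem (q.asIdeal.mul_mem_left c (hq hts)) hiq

theorem exists_vanishing {X : Over (Spec (CommRingCat.of R))} [IsIntegral X.left] [Flat X.hom] [IsProper X.hom]
    (hdim : topologicalKrullDim X.left = 2) (E : ArSurf.VertComp R X)
    (hiso : ∃ U : X.left.Opens, (U : Set X.left) ∩ Models.specialFibreSet R X = Set.range E.ι.base) :
    ∃ π : Γ(X.left, ⊤), π ≠ 0 ∧ ¬ IsUnit π ∧ ∀ x : X.left, x ∈ Set.range E.ι.base ↔ x ∉ X.left.basicOpen π := by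
  haveI := E.isClosedImmersion
  haveI := E.isIntegral
  obtain ⟨U, hU⟩ := hiso
  let f := X.hom
  let N := f.normalization
  let ν : X.left ⟶ N := f.toNormalization
  haveI : IsAffine N := isAffine_of_isAffineHom f.fromNormalization
  haveI hν : IsProper ν := by
    haveI : IsProper (ν ≫ f.fromNormalization) := by
      rw [f.toNormalization_fromNormalization]; infer_instance
    exact IsProper.of_comp ν f.fromNormalization
  haveI : GeometricallyConnected ν := (S0388.result f).1
  let A := Γ(N, ⊤)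
  let e : N ≅ Spec A := N.isoSpec
  let g : Spec A ⟶ Spec (CommRingCat.of R) := e.inv ≫ f.fromNormalization
  let φ : CommRingCat.of R ⟶ A := Spec.preimage g
  have hφ : Spec.map φ = g := Spec.map_preimage g
  haveI : IsIntegralHom (Spec.map φ) := by rw [hφ]; infer_instance
  have hint : φ.hom.IsIntegral := (IsIntegralHom.SpecMap_iff).1 inferInstance
  letI : Algebra R A := φ.hom.toAlgebra
  haveI : Algebra.IsIntegral R A := ⟨hint⟩
  haveI : IsDomain A := inferInstanceAs (IsDomain Γ(f.normalization, ⊤))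
  have hcomp : ∀ x : X.left, Spec.map φ (e.hom (ν x)) = f x := fun x => by
    rw [hφ, ← Scheme.Hom.comp_apply, ← Scheme.Hom.comp_apply]
    congr 1
    simp [g, ν]
  let pt : X.left → PrimeSpectrum A := fun x => e.hom (ν x)
  have hfib : ∀ x : X.left, x ∈ Models.specialFibreSet R X ↔ (pt x).asIdeal.comap φ.hom = IsLocalRing.maximalIdeal R := by
    intro x
    show f x = IsLocalRing.closedPoint R ↔ _
    rw [← hcomp x]
    exact ⟨fun h => congrArg PrimeSpectrum.asIdeal h, fun h => PrimeSpectrum.ext h⟩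
  have hmax : ∀ x : X.left, x ∈ Models.specialFibreSet R X → (pt x).asIdeal.IsMaximal := fun x hx =>
    Ideal.isMaximal_of_isIntegral_of_isMaximal_comap (R := R) _ (by
      rw [show algebraMap R A = φ.hom from rfl, (hfib x).1 hx]; infer_instance)
  have hEs : ∀ c, E.ι.base c ∈ Models.specialFibreSet R X :=
    fun c => (ArtinTriv.range_mem_fibreComponents hdim E).1.2 ⟨c, rfl⟩
  let η := E.ι.base (genericPoint E.curve.left)
  let p := pt η
  have hpE : ∀ c, pt (E.ι.base c) = p := fun c => by
    have h1 : p ⤳ pt (E.ι.base c) :=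
      (((genericPoint_specializes c).map E.ι.continuous).map ν.continuous).map e.hom.continuous
    have h2 := (PrimeSpectrum.le_iff_specializes _ _).2 h1
    exact (PrimeSpectrum.ext ((hmax η (hEs _)).eq_of_le (pt (E.ι.base c)).2.ne_top h2)).symm
  -- the fibre of `ν` over `p` is the curve
  have hpre : ∀ x, pt x = p → x ∈ Set.range E.ι.base := fun x hx => by
    have hνx : ν x = ν η := e.hom.homeomorph.injective hx
    have hC : _root_.IsPreconnected (ν ⁻¹' {ν η}) := (ν.isConnected_preimage_singleton _).isPreconnected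
    have hsub : ν ⁻¹' {ν η} ⊆ Models.specialFibreSet R X := fun y hy => by
      rw [hfib y, show pt y = pt η from congrArg e.hom hy]
      exact (hfib η).1 (hEs _)
    have hEcl : IsClosed (Set.range E.ι.base) := E.ι.isClosedEmbedding.isClosed_range
    refine hU ▸ ⟨?_, hsub hνx⟩
    by_contra hxU
    obtain ⟨y, hy, hyE, hyU⟩ := hC (U : Set X.left) (Set.range E.ι.base)ᶜ U.2 hEcl.isOpen_compl
      (fun y hy => by
        by_cases hyE : y ∈ Set.range E.ι.base
        · exact Or.inl (hU.ge hyE).1
        · exact Or.inr hyE)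
      ⟨η, rfl, (hU.ge ⟨_, rfl⟩).1⟩ ⟨x, hνx, fun hxE => hxU (hU.ge hxE).1⟩
    exact hyU (hU.le ⟨hyE, hsub hy⟩)
  -- separate the point from the other components
  let S' : Set X.left := Models.specialFibreSet R X ∩ (U : Set X.left)ᶜ
  have hT : IsClosed (pt '' S') := by
    rw [show pt '' S' = e.hom '' (ν '' S') from (Set.image_image _ _ _).symm]
    exact e.hom.homeomorph.isClosedMap _ (ν.isClosedMap _ ((Models.isClosed_specialFibreSet R X).inter U.2.isClosed_compl))
  have hpT : p ∉ pt '' S' := by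
    rintro ⟨x, hx, hxp⟩
    exact hx.2 (hU.ge (hpre x hxp)).1
  obtain ⟨a₀, ha₀, ha₀T⟩ := exists_separate p (hmax η (hEs _)) hT hpT
  obtain ⟨ϖ, hirr⟩ := IsDiscreteValuationRing.exists_irreducible R
  have hϖ0 : φ.hom ϖ ≠ 0 := fun h0 => by
    have h1 : ϖ ∈ (pt (genericPoint X.left)).asIdeal.comap φ.hom := by
      rw [Ideal.mem_comap, h0]; exact zero_mem _
    have h2 : f (genericPoint X.left) = genericPoint (Spec (CommRingCat.of R)) := ArtinTriv.apply_generic X
    rw [genericPoint_eq_bot_of_affine, ← hcomp] at h2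
    have h3 : (pt (genericPoint X.left)).asIdeal.comap φ.hom = ⊥ := congrArg PrimeSpectrum.asIdeal h2
    rw [h3] at h1
    exact hirr.ne_zero h1
  obtain ⟨a, ha, ha0, haT⟩ : ∃ a ∈ p.asIdeal, a ≠ 0 ∧ ∀ q ∈ pt '' S', a ∉ q.asIdeal := by
    by_cases h : a₀ = 0
    · refine ⟨φ.hom ϖ, ?_, hϖ0, fun q hq _ => ha₀T q hq (h ▸ zero_mem _)⟩
      show ϖ ∈ p.asIdeal.comap φ.hom
      rw [(hfib η).1 (hEs _), hirr.maximalIdeal_eq]
      exact Ideal.mem_span_singleton_self ϖ
    · exact ⟨a₀, ha₀, h, ha₀T⟩
  have hbo : ∀ x : X.left, x ∈ X.left.basicOpen (ν.appTop a) ↔ a ∉ (pt x).asIdeal := fun x => by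
    rw [← Scheme.preimage_basicOpen_top]
    show ν x ∈ N.basicOpen a ↔ _
    have h1 : e.hom ⁻¹ᵁ (Spec A).basicOpen ((Scheme.ΓSpecIso A).inv a) = N.basicOpen a := by
      rw [Scheme.preimage_basicOpen_top]
      congr 1
      show (N.toSpecΓ).appTop ((Scheme.ΓSpecIso A).inv a) = a
      rw [Scheme.toSpecΓ_appTop, ← CommRingCat.comp_apply, Iso.inv_hom_id]
      rfl
    rw [← h1]
    show e.hom (ν x) ∈ (Spec A).basicOpen ((Scheme.ΓSpecIso A).inv a) ↔ _
    rw [basicOpen_eq_of_affine]
    rfl
  have hloc : ∀ x : X.left, x ∈ Set.range E.ι.base ↔ x ∉ X.left.basicOpen (ν.appTop a) := fun x => by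
    rw [hbo, not_not]
    refine ⟨fun ⟨c, hc⟩ => hc ▸ (hpE c).symm ▸ ha, fun hax => ?_⟩
    have hxs : x ∈ Models.specialFibreSet R X := by
      rw [hfib]
      have hne : (pt x).asIdeal.comap (algebraMap R A) ≠ ⊥ := fun h =>
        ha0 (by
          have h4 := Ideal.eq_bot_of_comap_eq_bot (R := R) h
          rw [h4] at hax
          exact hax)
      haveI : ((pt x).asIdeal.comap (algebraMap R A)).IsPrime := Ideal.comap_isPrime _ _
      exact IsLocalRing.eq_maximalIdeal (Ideal.IsPrime.isMaximal inferInstance hne)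
    by_cases hxU : x ∈ U
    · exact hU.le ⟨hxU, hxs⟩
    · exact absurd hax (haT _ ⟨x, ⟨hxs, hxU⟩, rfl⟩)
  refine ⟨ν.appTop a, fun h0 => ?_, fun hu => ?_, hloc⟩
  · have hgen : genericPoint X.left ∈ Set.range E.ι.base := (hloc _).2 (by rw [h0, Scheme.basicOpen_zero]; exact id)
    obtain ⟨c, hc⟩ := hgen
    have h1 := hEs c
    rw [hc] at h1
    have h2 : f (genericPoint X.left) = genericPoint (Spec (CommRingCat.of R)) := ArtinTriv.apply_generic X
    rw [show f (genericPoint X.left) = IsLocalRing.closedPoint R from h1, genericPoint_eq_bot_of_affine] at h2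
    exact GGContract.closedPoint_ne_bot R h2
  · exact (hloc η).1 ⟨_, rfl⟩ (by rw [X.left.basicOpen_of_isUnit hu]; trivial)

end Groth.Agent.H26.Adjunction.Vanishing
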