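import Groth.Agent.H26.Adjunction.Degree
import Groth.Agent.H26.EulerGenus
import Groth.Agent.H26.Chain

/-!
# Adjunction for vertical divisors
-/

noncomputable section

set_option autoImplicit false
set_option linter.style.haveILetI false
set_option linter.unusedSectionVars false
set_option backward.isDefEq.respectTransparency false
set_option backward.isDefEq.respectTransparency.types false
set_option maxHeartbeats 1000000

universe u

open CategoryTheory CategoryTheory.Limits AlgebraicGeometry TopologicalSpace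
open Groth.Agent.H23 Groth.Agent.H28
open scoped Groth.Agent.H23.PicMul

namespace Groth.Agent.H26.Adjunction

open Groth.Agent

variable {R : Type u} [CommRing R] [IsDomain R] [IsDiscreteValuationRing R] {X : Over (Spec (CommRingCat.of R))}

theorem isProper_hom (hX : ArSurf.IsArithSurface R X) : IsProper X.hom := by
  obtain ⟨hreg, hint, hdim, hflat, N, iX, hiX, hcomm⟩ := hX
  haveI := hiX
  haveI := MultiP1.isProper_toBase (X := Spec (CommRingCat.of R)) N
  exact hcomm ▸ inferInstance

theorem heff_vert (hX : ArSurf.IsArithSurface R X) (E : ArSurf.VertComp R X) :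
    BlowUp.IsEffCartierIdeal E.ι.ker := by
  haveI := isProper_hom hX
  obtain ⟨hreg, hint, hdim, -⟩ := hX
  haveI := hint
  exact InterSymm.isEffCartier_ker hdim.le (by rw [hdim]; decide) hreg E

/-- Euler characteristic and intersection numbers. -/
theorem eulerLE_pullback {M : X.left.Modules} (Γ : ArSurf.VertComp R X) :
    FGA.eulerCharLE (IsLocalRing.ResidueField R) Γ.curve.left ((Scheme.Modules.pullback Γ.ι).obj M) 1 =
      ArSurf.inter R X M Γ +
        FGA.eulerCharLE (IsLocalRing.ResidueField R) Γ.curve.left (Coh.structureModule Γ.curve.left) 1 := by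
  unfold ArSurf.inter ArSurf.curveDeg
  ring

section Family

variable {r : ℕ} {Γ : Fin r → ArSurf.VertComp R X} {L : Fin r → X.left.Modules}

/-- The adjunction form `(D + K) · D`. -/
def adjForm (Γ : Fin r → ArSurf.VertComp R X) (L : Fin r → X.left.Modules) (ω : X.left.Modules) (a : Fin r → ℕ) : ℤ :=
  ∑ i, (a i : ℤ) * (∑ j, (a j : ℤ) * ArSurf.inter R X (L j) (Γ i) + ArSurf.inter R X ω (Γ i))

variable (hX : ArSurf.IsArithSurface R X) (hinj : Function.Injective fun i => Set.range (Γ i).ι.base)
  (hL : ∀ j, ClSub.IsInverseOf (L j) (ClSub.idealMod (Γ j).ι.ker))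
  (ω : X.left.Modules) (hω : Canon.IsCanonical X.hom ω)

include hX hinj hL in
theorem inter_symm_family (i j : Fin r) : ArSurf.inter R X (L j) (Γ i) = ArSurf.inter R X (L i) (Γ j) := by
  haveI := isProper_hom hX
  by_cases h : i = j
  · rw [h]
  exact InterSymm.inter_symm (Γ i) (Γ j) (fun e => h (hinj e)) (heff_vert hX _) (heff_vert hX _) (hL i) (hL j)

include hX hinj hL hω in
/-- The Euler characteristic of a vertical divisor. -/
theorem good_chi : ∀ (s : ℕ) (a : Fin r → ℕ), ∑ j, a j = s →
    EulerFibre.Good X (ClSub.quotMod (∏ j, (Γ j).ι.ker ^ a j)) ∧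
      adjForm Γ L ω a = -2 * EulerFibre.chi X (ClSub.quotMod (∏ j, (Γ j).ι.ker ^ a j)) := by
  classical
  haveI := isProper_hom hX
  intro s
  induction s with
  | zero =>
    intro a ha
    obtain rfl : a = 0 := funext fun j => Finset.sum_eq_zero_iff.1 ha j (Finset.mem_univ j)
    have h1 : ∏ j, (Γ j).ι.ker ^ (0 : Fin r → ℕ) j = ⊤ := (Finset.prod_eq_one fun j _ => pow_zero _).trans rfl
    rw [h1]
    obtain ⟨h, hc⟩ := EulerFibre.good_of_isZero X (M := ClSub.quotMod (⊤ : X.left.IdealSheafData))
      (CurveCohLib.isZero_of_subsingleton_stalks fun x => ParShLib.subsingleton_stalk_quotMod _ (by rw [Scheme.IdealSheafData.support_top]; exact id))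
    exact ⟨h, by rw [hc]; simp [adjForm]⟩
  | succ s ih =>
    intro a ha
    obtain ⟨i, -, hi⟩ := Finset.exists_ne_zero_of_sum_ne_zero (ha.trans_ne (Nat.succ_ne_zero s))
    let b : Fin r → ℕ := fun j => a j - if j = i then 1 else 0
    have hab : a = fun j => b j + if j = i then 1 else 0 := funext fun j => by
      by_cases h : j = i
      · subst h; simp only [b, ite_true, ↓reduceIte]; omega
      · simp [b, h]
    rw [hab] at ha ⊢
    obtain ⟨hb1, hb2⟩ := ih b (by rw [Finset.sum_add_distrib, Finset.sum_ite_eq', if_pos (Finset.mem_univ _)] at ha; omega)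
    have heff : ∀ j, BlowUp.IsEffCartierIdeal (Γ j).ι.ker := fun j => heff_vert hX _
    obtain ⟨hJ, -⟩ := IdealCl.eff_and_cl_prod Finset.univ (fun j => (Γ j).ι.ker) heff b
    have hprod : ∏ j, (Γ j).ι.ker ^ (b j + if j = i then 1 else 0) = (∏ j, (Γ j).ι.ker ^ b j) * (Γ i).ι.ker := by
      simp only [pow_add, Finset.prod_mul_distrib, pow_ite, pow_one, pow_zero, Finset.prod_ite_eq', Finset.mem_univ,
        if_true]
    obtain ⟨h1, h2⟩ := EulerFibre.good_step (Γ i) hJ hb1
    rw [← hprod] at h1 h2
    refine ⟨h1, ?_⟩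
    rw [h2, eulerLE_pullback, Chain.inter_prod heff hL b (Γ i)]
    have hadj := inter_add_inter hX (Γ i) (L i) (hL i) ω hω
    have hsym := fun j => inter_symm_family hX hinj hL i j
    simp only [adjForm] at hb2 ⊢
    simp only [Nat.cast_add, Nat.cast_ite, Nat.cast_one, Nat.cast_zero, add_mul, mul_add,
      Finset.sum_add_distrib, ite_mul, one_mul, zero_mul, Finset.sum_ite_eq', Finset.mem_univ, if_true, mul_ite,
      mul_one, mul_zero] at hb2 ⊢
    simp only [hsym] at hb2 ⊢
    linarith

end Family

/-- The length of the cohomology of a subscheme of the closed fibre. -/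
theorem lengthH_quotMod [IsProper X.hom] (J : X.left.IdealSheafData)
    (g : J.subscheme ⟶ Spec (CommRingCat.of (IsLocalRing.ResidueField R)))
    (hg : g ≫ Spec.map (CommRingCat.ofHom (IsLocalRing.residue R)) = J.subschemeι ≫ X.hom) (i : ℕ) :
    Models.lengthH R X (ClSub.quotMod J) i =
      Models.hRank (IsLocalRing.ResidueField R) J.subscheme g (Coh.structureModule J.subscheme) i := by
  let k := IsLocalRing.ResidueField R
  letI : J.subscheme.Over (Spec (CommRingCat.of k)) := ⟨g⟩
  haveI : IsProper (g ≫ Spec.map (CommRingCat.ofHom (IsLocalRing.residue R))) := by rw [hg]; infer_instance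
  haveI : IsProper (J.subscheme ↘ Spec (CommRingCat.of k)) :=
    IsProper.of_comp g (Spec.map (CommRingCat.ofHom (IsLocalRing.residue R)))
  haveI : IsNoetherian J.subscheme := CurveCohLib.isNoetherian_of_proper (k := k) (X := J.subscheme)
  haveI := CurveCohLib.finite_HH (k := k) (X := J.subscheme) QCoh.isCoh_structureModule' i
  letI : J.subscheme.Over (Spec (CommRingCat.of R)) := ⟨g ≫ Spec.map (CommRingCat.ofHom (IsLocalRing.residue R))⟩
  obtain ⟨a⟩ := PnCoh.exists_linearEquiv_push R J.subschemeι (P := X.left) hg.symm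
    (QCoh.isQCoh_structureModule (X := J.subscheme)) i
  show (Module.length R (Coh.HH X.left (ClSub.quotMod J) i)).toNat = _
  refine (congrArg ENat.toNat (a.length_eq.symm.trans
    (EulerFibre.length_HH_eq_finrank g (Coh.structureModule J.subscheme) i))).trans ?_
  rw [ENat.toNat_coe]
  rfl

/-- Adjunction for vertical divisors in the closed fibre. -/
theorem adjunction_divisor (hX : ArSurf.IsArithSurface R X) {r : ℕ} (Γ : Fin r → ArSurf.VertComp R X)
    (hinj : Function.Injective fun i => Set.range (Γ i).ι.base)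
    (L : Fin r → X.left.Modules) (hL : ∀ j, ClSub.IsInverseOf (L j) (ClSub.idealMod (Γ j).ι.ker))
    (ω : X.left.Modules) (hω : Canon.IsCanonical X.hom ω) (a : Fin r → ℕ)
    (g : (∏ j, (Γ j).ι.ker ^ a j).subscheme ⟶ Spec (CommRingCat.of (IsLocalRing.ResidueField R)))
    (hg : g ≫ Spec.map (CommRingCat.ofHom (IsLocalRing.residue R)) = (∏ j, (Γ j).ι.ker ^ a j).subschemeι ≫ X.hom) :
    adjForm Γ L ω a =
      -2 * ((Models.hRank (IsLocalRing.ResidueField R) (∏ j, (Γ j).ι.ker ^ a j).subscheme g (Coh.structureModule (∏ j, (Γ j).ι.ker ^ a j).subscheme) 0 : ℤ) -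
             (Models.hRank (IsLocalRing.ResidueField R) (∏ j, (Γ j).ι.ker ^ a j).subscheme g (Coh.structureModule (∏ j, (Γ j).ι.ker ^ a j).subscheme) 1 : ℤ)) := by
  haveI := isProper_hom hX
  rw [(good_chi hX hinj hL ω hω _ a rfl).2, EulerFibre.chi, lengthH_quotMod _ g hg, lengthH_quotMod _ g hg]

/-- Adjunction on the closed fibre. -/
theorem sum_mult_inter_canonical (hX : ArSurf.IsArithSurface R X) {n : ℕ} (Γ : Fin n → ArSurf.VertComp R X)
    (hΓ : Models.IsComponentList R X Γ) (ω : X.left.Modules) (hω : Canon.IsCanonical X.hom ω) :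
    ∑ i, (Models.mult R X (Γ i) : ℤ) * ArSurf.inter R X ω (Γ i) =
      -2 * FGA.eulerCharLE (FractionRing R) ((Neron.genericFibre R).obj X).left
        (Coh.structureModule ((Neron.genericFibre R).obj X).left) 1 := by
  haveI := isProper_hom hX
  haveI : Flat X.hom := hX.2.2.2.1
  have heff : ∀ i, BlowUp.IsEffCartierIdeal (Γ i).ι.ker := fun i => heff_vert hX _
  choose L hLi hL using fun i => PicInv.exists_inverse (IdealCl.isInvertible_idealMod (heff i))
  have hL' : ∀ i, ClSub.IsInverseOf (L i) (ClSub.idealMod (Γ i).ι.ker) := fun i => by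
    letI := PicMul.clMonoid X.left
    refine PicMul.cl_eq_iff.1 ?_
    rw [PicMul.cl_tensor, mul_comm, ← PicMul.cl_tensor]
    exact PicMul.cl_eq_iff.2 (hL i)
  let D : VertClass.Data X Γ := ⟨L, hΓ, inferInstance, inferInstance, hX.1, hL'⟩
  obtain ⟨hgood, hchi⟩ := EulerFibre.good_fibre D
  have hgen := EulerFibre.chi_fibre_eq (X := X) ((Neron.genericFibre R).obj X).hom
    (pullback.fst X.hom (Neron.genPt R)) (IsPullback.of_hasPullback X.hom (Neron.genPt R)) hgood
  have hrhs : FGA.eulerCharLE (FractionRing R) ((Neron.genericFibre R).obj X).left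
      (Coh.structureModule ((Neron.genericFibre R).obj X).left) 1 =
      EulerFibre.chi X (ClSub.quotMod (Models.specialFibreIdeal R X)) := by
    rw [hgen]
    simp only [FGA.eulerCharLE, Finset.sum_range_succ, Finset.sum_range_zero]
    simp only [zero_add, pow_zero, one_mul, pow_one, neg_mul, ← sub_eq_add_neg]
    rfl
  rw [hrhs, show (-2 : ℤ) * EulerFibre.chi X (ClSub.quotMod (Models.specialFibreIdeal R X)) =
    -(2 * EulerFibre.chi X (ClSub.quotMod (Models.specialFibreIdeal R X))) by ring, hchi, ← Finset.sum_neg_distrib]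
  refine Finset.sum_congr rfl fun i _ => ?_
  have h := inter_add_inter hX (Γ i) (L i) (hL' i) ω hω
  rw [show ArSurf.inter R X ω (Γ i) = -2 * FGA.eulerCharLE (IsLocalRing.ResidueField R) (Γ i).curve.left
    (Coh.structureModule (Γ i).curve.left) 1 - ArSurf.inter R X (L i) (Γ i) by linarith]
  ring

end Groth.Agent.H26.Adjunction
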