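import Groth.Agent.H26.Adjunction.EulMul
import Groth.Agent.H26.Adjunction.Principal
import Groth.Agent.H26.Adjunction.Vanishing
import Groth.Agent.H26.Adjunction.Vertical
import Groth.Agent.H26.H1Chain
import Groth.Agent.H26.RedFibre

/-!
# Isolated components of the closed fibre
-/

noncomputable section

set_option autoImplicit false
set_option linter.style.haveILetI false
set_option linter.unusedSectionVars false
set_option backward.isDefEq.respectTransparency false
set_option backward.isDefEq.respectTransparency.types false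
set_option maxHeartbeats 1000000

universe u

open CategoryTheory CategoryTheory.Limits AlgebraicGeometry TopologicalSpace
open Groth.Agent.H23 Groth.Agent.H28
open Groth.Agent.PnCoh.Finite (mapLin deltaLin)
open scoped Groth.Agent.H23.PicMul TensorProduct

namespace Groth.Agent.H26.Adjunction

open Groth.Agent

variable {R : Type u} [CommRing R] [IsDomain R] [IsDiscreteValuationRing R] {X : Over (Spec (CommRingCat.of R))}

/-- A component of self-intersection zero meets no other component. -/
theorem isolated_of_inter_self_eq_zero (hX : ArSurf.IsArithSurface R X) (E : ArSurf.VertComp R X)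
    {L : X.left.Modules} (hL : ClSub.IsInverseOf L (ClSub.idealMod E.ι.ker)) (h0 : ArSurf.inter R X L E = 0) :
    ∃ U : X.left.Opens, (U : Set X.left) ∩ Models.specialFibreSet R X = Set.range E.ι.base := by
  classical
  haveI := isProper_hom hX
  obtain ⟨hreg, hint, hdim, hflat, -⟩ := id hX
  haveI := hint
  haveI := hflat
  obtain ⟨n, Γc, hΓ⟩ := CompList.exists_componentList hdim
  have heff : ∀ j, BlowUp.IsEffCartierIdeal (Γc j).ι.ker := fun j => heff_vert hX _
  choose L₀ hLi hL₀ using fun j => PicInv.exists_inverse (IdealCl.isInvertible_idealMod (heff j))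
  have hLc : ∀ j, ClSub.IsInverseOf (L₀ j) (ClSub.idealMod (Γc j).ι.ker) := fun j => by
    refine PicMul.cl_eq_iff.1 ?_
    rw [PicMul.cl_tensor, mul_comm, ← PicMul.cl_tensor]
    exact PicMul.cl_eq_iff.2 (hL₀ j)
  obtain ⟨i, hi⟩ := InterForm.exists_same_range hΓ E
  have hEi : ArSurf.inter R X (L₀ i) E = 0 := by
    have hcl : PicF.cl (L₀ i) = PicF.cl L := by
      have h1 : PicF.cl (L₀ i) * PicF.cl (ClSub.idealMod E.ι.ker) = 1 := by
        rw [← PicMul.cl_tensor, InterForm.ker_eq_of_range hi]
        exact PicMul.cl_eq_iff.2 (hLc i)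
      have h2 : PicF.cl L * PicF.cl (ClSub.idealMod E.ι.ker) = 1 := by
        rw [← PicMul.cl_tensor]; exact PicMul.cl_eq_iff.2 hL
      exact left_inv_eq_right_inv h1 (by rw [mul_comm]; exact h2)
    rw [ArInter.inter_congr E (hLi i) hcl, h0]
  have hne : ∀ j, j ≠ i → Set.range E.ι.base ≠ Set.range (Γc j).ι.base := fun j hj e =>
    hj (hΓ.1 (show Set.range (Γc j).ι.base = Set.range (Γc i).ι.base from e ▸ hi))
  have hsupp : ∀ j, ((Γc j).ι.ker.support : Set X.left) = Set.range (Γc j).ι.base := fun j => by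
    rw [Scheme.Hom.support_ker]
    exact (Γc j).ι.isClosedEmbedding.isClosed_range.closure_eq
  have hkey : ∀ j, j ≠ i → 0 ≤ ArSurf.inter R X (L₀ j) E ∧
      (ArSurf.inter R X (L₀ j) E = 0 ↔ Disjoint (Set.range E.ι.base) ((Γc j).ι.ker.support : Set X.left)) :=
    fun j hj => InterDiv.inter_nonneg_and_eq_zero_iff E (heff j)
      (by rw [hsupp]; exact InterSymm.genPt_notMem E (Γc j) (hne j hj)) (hLc j)
  have hsum : ∑ j, (Models.mult R X (Γc j) : ℤ) * ArSurf.inter R X (L₀ j) E = 0 := by
    rw [Finset.sum_congr rfl fun j _ => by rw [InterForm.inter_eq_of_range hΓ L₀ hLc hreg E i hi j]]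
    exact ArInter.sum_mult_mul_inter X Γc hreg hΓ L₀ hLc i
  have hz : ∀ j, j ≠ i → Disjoint (Set.range E.ι.base) (Set.range (Γc j).ι.base) := fun j hj => by
    have h := (Finset.sum_eq_zero_iff_of_nonneg (fun j _ => by
      by_cases hj' : j = i
      · subst hj'; rw [hEi, mul_zero]
      · exact mul_nonneg (Int.natCast_nonneg _) (hkey j hj').1)).1 hsum j (Finset.mem_univ j)
    rw [← hsupp]
    exact (hkey j hj).2.1 ((mul_eq_zero.1 h).resolve_left
      (Int.natCast_ne_zero.2 (InterForm.mult_pos hΓ hreg j).ne'))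
  let T : Set X.left := ⋃ j ∈ {j : Fin n | j ≠ i}, Set.range (Γc j).ι.base
  have hT : IsClosed T := (Set.toFinite _).isClosed_biUnion fun j _ => (Γc j).ι.isClosedEmbedding.isClosed_range
  refine ⟨⟨Tᶜ, hT.isOpen_compl⟩, Set.ext fun x => ⟨?_, ?_⟩⟩
  · rintro ⟨hxT, hxs⟩
    obtain ⟨j, hj⟩ := RedFibre.exists_mem_component hΓ hxs
    by_cases hji : j = i
    · subst hji; exact hi ▸ hj
    · exact absurd (Set.mem_biUnion (x := j) hji hj) hxT
  · intro hx
    refine ⟨fun hxT => ?_, (ArtinTriv.range_mem_fibreComponents hdim E).1.2 hx⟩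
    obtain ⟨j, hj, hxj⟩ := Set.mem_iUnion₂.1 hxT
    exact Set.disjoint_left.1 (hz j hj) hx hxj

/-- Multiplication by a global function on cohomology. -/
theorem length_quot_princ [IsProper X.hom] [IsIntegral X.left] {π : Γ(X.left, ⊤)} (hπ : π ≠ 0) (i : ℕ) :
    letI : Algebra R Γ(X.left, ⊤) := (Coh.toGlobal X.hom).toAlgebra
    letI : Module Γ(X.left, ⊤) (Coh.HH X.left (Coh.structureModule X.left) i) := Coh.moduleΓtop _ i
    letI : Module Γ(X.left, ⊤) (Coh.HH X.left (Coh.structureModule X.left) (i + 1)) := Coh.moduleΓtop _ (i + 1)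
    Module.length R (Coh.HH X.left (ClSub.quotMod (Principal.princ π)) i) =
      Module.length R (Coh.HH X.left (Coh.structureModule X.left) i ⧸
          LinearMap.range (EulMul.mulMap (R := R) π (Coh.HH X.left (Coh.structureModule X.left) i))) +
      Module.length R (LinearMap.ker (EulMul.mulMap (R := R) π (Coh.HH X.left (Coh.structureModule X.left) (i + 1)))) := by
  letI : Algebra R Γ(X.left, ⊤) := (Coh.toGlobal X.hom).toAlgebra
  obtain ⟨⟨hz, hS⟩, -⟩ := Principal.shortExact hπ
  have hmap : ∀ i,
      letI : Module Γ(X.left, ⊤) (Coh.HH X.left (Coh.structureModule X.left) i) := Coh.moduleΓtop _ i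
      mapLin R (Principal.mulSect π) i = EulMul.mulMap (R := R) π (Coh.HH X.left (Coh.structureModule X.left) i) :=
    fun i => LinearMap.ext fun x => by
      show Sheaf.H.map ((QCoh.toAbFunctor X.left).map (Principal.mulSect π)) i x = _
      rw [Principal.toAb_mulSect]
      rfl
  refine (EulerFibre.length_mid _ _ (CurveCohLib.ker_deltaLin R hS i)).trans (congrArg₂ (· + ·) ?_ ?_)
  · rw [← (LinearMap.quotKerEquivRange _).length_eq]
    exact (Submodule.quotEquivOfEq _ _ ((CurveCohLib.ker_mapLin_g R hS i).trans (congrArg LinearMap.range (hmap i)))).length_eq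
  · exact (LinearEquiv.ofEq _ _ ((CurveCohLib.ker_mapLin_f_succ R hS i).symm.trans
      (congrArg LinearMap.ker (hmap (i + 1))))).length_eq

/-- The canonical degree of an isolated component has the sign of minus the Euler characteristic. -/
theorem isolated_spec (hX : ArSurf.IsArithSurface R X) (E : ArSurf.VertComp R X)
    {L : X.left.Modules} (hL : ClSub.IsInverseOf L (ClSub.idealMod E.ι.ker))
    {ω : X.left.Modules} (hω : Canon.IsCanonical X.hom ω)
    (hiso : ∃ U : X.left.Opens, (U : Set X.left) ∩ Models.specialFibreSet R X = Set.range E.ι.base) :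
    ArSurf.inter R X L E = 0 ∧ ∃ c c' : ℤ, 0 < c ∧ 0 < c' ∧ c * ArSurf.inter R X ω E =
      c' * (-2 * FGA.eulerCharLE (FractionRing R) ((Neron.genericFibre R).obj X).left
        (Coh.structureModule ((Neron.genericFibre R).obj X).left) 1) := by
  classical
  haveI := isProper_hom hX
  obtain ⟨hreg, hint, hdim, hflat, -⟩ := id hX
  haveI := hint
  haveI := hflat
  haveI : IsLocallyNoetherian X.left := LocallyOfFiniteType.isLocallyNoetherian X.hom
  haveI : CompactSpace X.left := QuasiCompact.compactSpace_of_compactSpace X.hom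
  haveI : IsNoetherian X.left := ⟨⟩
  obtain ⟨π, hπ, hu, hloc⟩ := Vanishing.exists_vanishing hdim E hiso
  obtain ⟨m, hm⟩ := Principal.princ_eq_pow hreg E.ι (ringKrullDim_stalk_generic hdim E) hπ hloc
  have hm0 : 0 < m := Nat.pos_of_ne_zero fun h => by
    subst h
    have hmem : (E.ι (genericPoint E.curve.left)) ∈ ((Principal.princ π).support : Set X.left) := by
      obtain ⟨U, hU, hxU, -⟩ :=
        exists_isAffineOpen_mem_and_subset (x := E.ι (genericPoint E.curve.left)) (U := ⊤) trivial
      rw [SetLike.mem_coe, Scheme.IdealSheafData.mem_support_iff_of_mem (U := ⟨U, hU⟩) hxU,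
        Principal.princ_ideal, Scheme.zeroLocus_span, Scheme.mem_zeroLocus_iff]
      intro a ha hb
      rw [Set.mem_singleton_iff.1 ha] at hb
      have hb' : E.ι (genericPoint E.curve.left) ∈ U ⊓ X.left.basicOpen π := (X.left.basicOpen_res π _).le hb
      exact (hloc _).1 ⟨_, rfl⟩ hb'.2
    rw [hm, pow_zero, Scheme.IdealSheafData.one_eq_top, Scheme.IdealSheafData.support_top] at hmem
    exact hmem
  -- one curve
  let Γ1 : Fin 1 → ArSurf.VertComp R X := fun _ => E
  let L1 : Fin 1 → X.left.Modules := fun _ => L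
  have hinj : Function.Injective fun i => Set.range (Γ1 i).ι.base := fun a b _ => Subsingleton.elim a b
  have hprod : ∏ j, (Γ1 j).ι.ker ^ (fun _ : Fin 1 => m) j = Principal.princ π := by
    rw [Fin.prod_univ_one, hm]
  obtain ⟨hgood, hform⟩ := good_chi (Γ := Γ1) (L := L1) hX hinj (fun _ => hL) ω hω _ (fun _ => m) rfl
  rw [hprod] at hgood hform
  have hLE : ArSurf.inter R X L E = 0 := by
    obtain ⟨-, ⟨e⟩⟩ := Principal.shortExact hπ
    have h := Chain.inter_prod (Γc := Γ1) (L := L1) (fun _ => heff_vert hX E) (fun _ => hL) (fun _ => m) E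
    rw [hprod, ← ArInter.inter_congr E InvX.isInvertible_structureModule (PicMul.cl_eq_iff.2 ⟨e⟩),
      ArInter.inter_structure, Fin.sum_univ_one] at h
    exact (mul_eq_zero.1 (neg_eq_zero.1 h.symm)).resolve_left (Int.natCast_ne_zero.2 hm0.ne')
  refine ⟨hLE, ?_⟩
  simp only [adjForm, Fin.sum_univ_one, Γ1, L1, hLE, mul_zero, zero_add] at hform
  -- cohomology of the surface
  let C := (Neron.genericFibre R).obj X
  let O := Coh.structureModule X.left
  let A := Γ(X.left, ⊤)
  haveI : IsProper ((Scheme.IdealSheafData.vanishingIdeal ⟨Set.univ, isClosed_univ⟩ :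
    X.left.IdealSheafData).subschemeι ≫ X.hom) := inferInstance
  have hfin : ∀ i, Module.Finite R (Coh.HH X.left O i) :=
    fun i => FFun.finite_HH_of_properSupport R (C := Set.univ) ⟨isClosed_univ, show IsProper (_ ≫ X.hom) from inferInstance⟩ QCoh.isCoh_structureModule'
      (Set.subset_univ _) i
  letI : Algebra R A := (Coh.toGlobal X.hom).toAlgebra
  letI : ∀ i, Module A (Coh.HH X.left O i) := fun i => Coh.moduleΓtop O i
  haveI : ∀ i, IsScalarTower R A (Coh.HH X.left O i) := fun i => IsScalarTower.of_algebraMap_smul fun _ _ => rfl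
  haveI : ∀ i, Module.Finite A (Coh.HH X.left O i) := fun i =>
    haveI := hfin i
    Module.Finite.of_restrictScalars_finite R A _
  haveI : Nonempty (⊤ : X.left.Opens) := ⟨⟨genericPoint X.left, trivial⟩⟩
  haveI : Module.Finite R A := by
    haveI := hfin 0
    let e : Coh.HH X.left O 0 ≃+ A := Sheaf.H.equiv₀ (Coh.toAb O) isTerminalTop
    have he : ∀ (r : Coh.Γtop X.left) (x : Coh.HH X.left O 0), e (r • x) = (show A from r) * e x := by
      intro r x
      have h := (Sheaf.H.equiv₀_naturality isTerminalTop (Coh.smulAb O r) x).symm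
      refine (show e (r • x) = _ from h).trans ?_
      show (show A from Coh.resTop X.left (Opposite.op ⊤) r) * e x = _
      congr 1
      show (X.left.presheaf.map (homOfLE le_top).op).hom r = r
      rw [show (homOfLE le_top).op = 𝟙 (Opposite.op (⊤ : X.left.Opens)) from rfl, X.left.presheaf.map_id]
      rfl
    let eL : Coh.HH X.left O 0 ≃ₗ[R] A := { e with map_smul' := fun c x => he _ x }
    exact Module.Finite.equiv eL
  have hinjA : Function.Injective (algebraMap R A) := (injective_iff_map_eq_zero _).2 fun a ha => by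
    by_contra ha0
    obtain ⟨U, hU, hxU, -⟩ := exists_isAffineOpen_mem_and_subset (x := genericPoint X.left) (U := ⊤) trivial
    haveI : Nonempty ↥U.toScheme := ⟨⟨_, hxU⟩⟩
    have h1 := FibreIdeal.unifOn_mem_nonZeroDivisors X ha0 hU
    rw [show FibreIdeal.unifOn X a U = 0 from
      (congrArg (X.left.presheaf.map (homOfLE (le_top : U ≤ ⊤)).op).hom ha).trans (map_zero _)] at h1
    exact zero_notMem_nonZeroDivisors h1
  have hd : 0 < Module.finrank R A := by
    haveI : NoZeroSMulDivisors R A := ⟨fun {r x} h => by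
      rw [Algebra.smul_def] at h
      rcases mul_eq_zero.1 h with h | h
      · exact Or.inl (hinjA (h.trans (map_zero _).symm))
      · exact Or.inr h⟩
    haveI : Module.IsTorsionFree R A := inferInstance
    exact Module.finrank_pos
  -- lengths
  have h2 : Subsingleton (Coh.HH X.left O 2) := by
    obtain ⟨ϖ, hirr⟩ := IsDiscreteValuationRing.exists_irreducible R
    obtain ⟨hz, hS⟩ := FibreSeq.shortExact X hirr.maximalIdeal_eq hirr.ne_zero
    have hgF : EulerFibre.Good X (ClSub.quotMod (Models.specialFibreIdeal R X)) := by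
      obtain ⟨n, Γc, hΓ⟩ := CompList.exists_componentList hdim
      choose L₀ hLi hL₀ using fun j => PicInv.exists_inverse (IdealCl.isInvertible_idealMod (heff_vert hX (Γc j)))
      have hLc : ∀ j, ClSub.IsInverseOf (L₀ j) (ClSub.idealMod (Γc j).ι.ker) := fun j => by
        refine PicMul.cl_eq_iff.1 ?_
        rw [PicMul.cl_tensor, mul_comm, ← PicMul.cl_tensor]
        exact PicMul.cl_eq_iff.2 (hL₀ j)
      exact (EulerFibre.good_fibre (⟨L₀, hΓ, inferInstance, inferInstance, hreg, hLc⟩ : VertClass.Data X Γc)).1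
    have e3 := EulerFibre.length_mid _ _ (CurveCohLib.ker_deltaLin R hS 2)
    haveI := hgF.2 2 le_rfl
    rw [Module.length_eq_zero, eq_comm, add_eq_zero, Module.length_eq_zero_iff] at e3
    haveI := e3.1
    have hsur : ∀ x : Coh.HH X.left O 2, ∃ y, ϖ • y = x := fun x => by
      have hx : x ∈ LinearMap.ker (mapLin R (ClSub.toSubscheme (Models.specialFibreIdeal R X)) 2) :=
        congrArg Subtype.val (Subsingleton.elim
          (⟨mapLin R (ClSub.toSubscheme (Models.specialFibreIdeal R X)) 2 x, ⟨x, rfl⟩⟩ :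
            LinearMap.range (mapLin R (ClSub.toSubscheme (Models.specialFibreIdeal R X)) 2)) 0)
      rw [CurveCohLib.ker_mapLin_g R hS 2] at hx
      obtain ⟨y, hy⟩ := hx
      refine ⟨y, ?_⟩
      rw [← hy]
      show ϖ • y = Sheaf.H.map ((QCoh.toAbFunctor X.left).map (FibreSeq.mulConst X ϖ)) 2 y
      rw [FibreSeq.toAb_mulConst]
      rfl
    refine Submodule.subsingleton_iff R |>.1 (subsingleton_of_bot_eq_top ?_)
    refine (Submodule.eq_bot_of_le_smul_of_le_jacobson_bot (IsLocalRing.maximalIdeal R) ⊤ (hfin 2).fg_top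
      (fun x _ => ?_) (IsLocalRing.maximalIdeal_le_jacobson _)).symm
    obtain ⟨y, rfl⟩ := hsur x
    exact Submodule.smul_mem_smul (by rw [hirr.maximalIdeal_eq]; exact Ideal.mem_span_singleton_self ϖ) trivial
  have hrank : ∀ i, Module.finrank R (Coh.HH X.left O i) =
      Models.hRank (FractionRing R) C.left C.hom (Coh.structureModule C.left) i := fun i => by
    letI : C.left.Over (Spec (CommRingCat.of (FractionRing R))) := ⟨C.hom⟩
    have hg : IsPullback (pullback.fst X.hom (Neron.genPt R)) C.hom X.hom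
        (Spec.map (CommRingCat.ofHom (algebraMap R (FractionRing R)))) :=
      IsPullback.of_hasPullback X.hom (Neron.genPt R)
    obtain ⟨e⟩ := QCoh.HH_flatBaseChange (A := R) (B := FractionRing R) hg (QCoh.isQCoh_structureModule (X := X.left)) i
    obtain ⟨o⟩ := PicClLib.nonempty_pullback_structureModule (pullback.fst X.hom (Neron.genPt R))
    haveI := hfin i
    refine ((TensorProduct.isBaseChange R (Coh.HH X.left O i) (FractionRing R)).finrank_eq).symm.trans ?_
    exact e.finrank_eq.trans (NormalLib.hhIso (A := FractionRing R) o i).finrank_eq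
  obtain ⟨a0, b0⟩ := EulMul.formula (R := R) hinjA hπ (Coh.HH X.left O 0)
  obtain ⟨a1, b1⟩ := EulMul.formula (R := R) hinjA hπ (Coh.HH X.left O 1)
  have hℓ := EulMul.length_pos (R := R) hinjA hπ hu
  generalize (Module.length R (A ⧸ LinearMap.range (LinearMap.mulLeft R π))).toNat = ℓ at hℓ b0 b1
  have e0 := length_quot_princ (X := X) hπ 0
  have e1 := length_quot_princ (X := X) hπ 1
  have hk2 : Module.length R (LinearMap.ker (EulMul.mulMap (R := R) π (Coh.HH X.left O 2))) = 0 := by
    haveI := h2
    exact Module.length_eq_zero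
  have hk0 : Module.length R (LinearMap.ker (EulMul.mulMap (R := R) π (Coh.HH X.left O 0))) = 0 := by
    obtain ⟨⟨hz, hS⟩, -⟩ := Principal.shortExact hπ
    have hinj0 := CurveCohLib.mapLin_f_zero_injective R hS
    have hmap : EulMul.mulMap (R := R) π (Coh.HH X.left O 0) = mapLin R (Principal.mulSect π) 0 :=
      LinearMap.ext fun x => by
        show _ = Sheaf.H.map ((QCoh.toAbFunctor X.left).map (Principal.mulSect π)) 0 x
        rw [Principal.toAb_mulSect]
        rfl
    rw [hmap, LinearMap.ker_eq_bot.2 hinj0, Module.length_bot]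
  have hchi : (Module.finrank R A : ℤ) * EulerFibre.chi X (ClSub.quotMod (Principal.princ π)) =
      (ℓ : ℤ) * FGA.eulerCharLE (FractionRing R) C.left (Coh.structureModule C.left) 1 := by
    have hgen : FGA.eulerCharLE (FractionRing R) C.left (Coh.structureModule C.left) 1 =
        (Module.finrank R (Coh.HH X.left O 0) : ℤ) - (Module.finrank R (Coh.HH X.left O 1) : ℤ) := by
      rw [hrank, hrank]
      simp only [FGA.eulerCharLE, Finset.sum_range_succ, Finset.sum_range_zero]
      simp only [zero_add, pow_zero, one_mul, pow_one, neg_mul, ← sub_eq_add_neg]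
      rfl
    change (Module.finrank R A : ℤ) * _ = (ℓ : ℤ) * (Module.finrank R (Coh.HH X.left O 0) : ℤ) at b0
    change (Module.finrank R A : ℤ) * _ = (ℓ : ℤ) * (Module.finrank R (Coh.HH X.left O 1) : ℤ) at b1
    rw [hgen, mul_sub, ← b0, ← b1, ← mul_sub]
    congr 1
    show ((Module.length R _).toNat : ℤ) - ((Module.length R _).toNat : ℤ) = _
    rw [e0, e1]
    simp only [IntThLib.eul]
    rw [hk0, hk2, add_zero, ENat.toNat_add a0.1 a1.2]
    push_cast
    simp only [ENat.toNat_zero, Nat.cast_zero, sub_zero]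
    ring
  refine ⟨(Module.finrank R A : ℤ) * m, ℓ, mul_pos (Int.natCast_pos.2 hd) (Int.natCast_pos.2 hm0),
    Int.natCast_pos.2 hℓ, ?_⟩
  rw [mul_assoc, hform, show (Module.finrank R A : ℤ) * (-2 * EulerFibre.chi X (ClSub.quotMod (Principal.princ π))) =
    -2 * ((Module.finrank R A : ℤ) * EulerFibre.chi X (ClSub.quotMod (Principal.princ π))) by ring, hchi]
  ring

end Groth.Agent.H26.Adjunction
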