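import Groth.Agent.H26.Adjunction.Codim
import Groth.Agent.KRegLib.Regular
import Groth.Agent.KRegLib.PermMor
import Groth.Agent.KRegLib.Closed
import Groth.Agent.S9773
import Groth.Prelude.Def_BlowUp2

/-!
# Local complete intersection morphisms into regular schemes
-/

set_option autoImplicit false
set_option linter.style.haveILetI false
set_option backward.isDefEq.respectTransparency false
set_option backward.isDefEq.respectTransparency.types false

universe u

open CategoryTheory AlgebraicGeometry TopologicalSpace RingTheory.Sequence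

namespace Groth.Agent.H26.Adjunction

open Groth.Agent

/-- An effective Cartier divisor is a regular closed immersion. -/
theorem regClosed_of_effCartier {E X : Scheme.{u}} (i : E ⟶ X) [IsClosedImmersion i]
    (h : BlowUp.IsEffCartierIdeal i.ker) : Mor2.IsRegularClosedImmersion i := by
  refine ⟨inferInstance, fun z => ?_⟩
  obtain ⟨U, hz, f, hf, hU⟩ := h (i z)
  refine ⟨U.1, U.2, hz, [f], ⟨(isWeaklyRegular_cons_iff _ _ _).2 ⟨?_, IsWeaklyRegular.nil _ _⟩, fun htop => ?_⟩, ?_⟩
  · exact fun a b hab => (isRegular_iff_mem_nonZeroDivisors.2 hf).left hab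
  · rw [smul_eq_mul, Ideal.mul_top, Ideal.ofList_singleton, ← hU] at htop
    have hs : i z ∈ (i.ker.support : Set X) := by
      rw [Scheme.Hom.support_ker]
      exact subset_closure ⟨z, rfl⟩
    rw [SetLike.mem_coe, Scheme.IdealSheafData.mem_support_iff_of_mem (U := U) hz, Scheme.mem_zeroLocus_iff] at hs
    have h1 : (1 : Γ(X, U.1)) ∈ i.ker.ideal U := htop ▸ Submodule.mem_top
    exact hs 1 h1 (by rw [Scheme.basicOpen_of_isUnit _ isUnit_one]; exact hz)
  · rw [Ideal.ofList_singleton]
    exact hU

/-- A regular closed immersion with integral source is a local complete intersection morphism. -/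
theorem isLCI'_of_regClosed {E P : Scheme.{u}} [IsIntegral E] [IsLocallyNoetherian P] (i : E ⟶ P)
    [IsClosedImmersion i] (h : Mor2.IsRegularClosedImmersion i) : KRegLib.IsLCI' i := by
  obtain ⟨c, -, hc⟩ := exists_codim i h
  refine (KRegLib.forall_isKoszulAt_iff i).1 fun z => S9773.result i _ (Or.inl rfl) ⟨hc.1, fun z => ?_⟩ z
  obtain ⟨U, hz, hU, rs, -, hrs, hker⟩ := hc.2 z
  exact ⟨U, hz, hU, rs, hrs, hker⟩

/-- A morphism of finite type between regular schemes is a local complete intersection morphism. -/
theorem isLCI'_of_regular {X S : Scheme.{u}} (f : X ⟶ S) [IsLocallyNoetherian S] [LocallyOfFiniteType f]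
    (hX : ∀ x : X, IsRegularLocalRing ↑(X.presheaf.stalk x)) (hS : ∀ s : S, IsRegularLocalRing ↑(S.presheaf.stalk s)) :
    KRegLib.IsLCI' f := by
  haveI : IsLocallyNoetherian X := LocallyOfFiniteType.isLocallyNoetherian f
  refine (KRegLib.isLCI'_iff f).2 fun U V hU hV e => ?_
  letI := (f.appLE V U e).hom.toAlgebra
  haveI := KRegLib.isRegularRing_sections hX hU
  haveI := KRegLib.isRegularRing_sections hS hV
  haveI : Algebra.FiniteType Γ(S, V) Γ(X, U) := f.finiteType_appLE hV hU e
  exact KRegLib.isLCI_of_regular Γ(S, V) Γ(X, U)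

/-- A closed immersion of a local complete intersection into a regular scheme is regular. -/
theorem regClosed_of_lci {E P S : Scheme.{u}} (j : E ⟶ P) [IsClosedImmersion j] (g : P ⟶ S)
    [IsLocallyNoetherian S] [LocallyOfFiniteType g] (hP : ∀ p : P, IsRegularLocalRing ↑(P.presheaf.stalk p))
    (h : KRegLib.IsLCI' (j ≫ g)) : Mor2.IsRegularClosedImmersion j := by
  haveI : IsLocallyNoetherian P := LocallyOfFiniteType.isLocallyNoetherian g
  exact KRegLib.regClosed_of_isKoszulAt j fun z =>
    (KRegLib.isKoszulAt_of_comp j g (KRegLib.finPdCharts_of_regular j hP)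
      ((KRegLib.forall_isKoszulAt_iff (j ≫ g)).2 h) z).1

end Groth.Agent.H26.Adjunction
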