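import Groth.Agent.H26.Adjunction.RelMin
import Groth.Agent.Contraction7.Main
import Groth.Agent.MinModel.Target
import Groth.Agent.PointBlow.Main
import Groth.Agent.H26.BiratFibre

/-!
# Removing contracted exceptional curves from a desingularization
-/

noncomputable section

set_option autoImplicit false
set_option linter.style.haveILetI false
set_option linter.unusedSectionVars false
set_option backward.isDefEq.respectTransparency false
set_option backward.isDefEq.respectTransparency.types false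
set_option maxHeartbeats 1000000

universe u

open CategoryTheory CategoryTheory.Limits AlgebraicGeometry TopologicalSpace
open Groth.Agent.H23 Groth.Agent.H28
open scoped Groth.Agent.H23.PicMul

namespace Groth.Agent.H26.Adjunction

open Groth.Agent

theorem closedPoint_of_closed_range {R : Type u} [CommRing R] [IsLocalRing R] {E : Scheme.{u}}
    (q : E ⟶ Spec (CommRingCat.of R)) [IsProper q] (c : Spec (CommRingCat.of R))
    (hc : ∀ a, q a = c) (a : E) : q a = IsLocalRing.closedPoint R := by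
  have h := q.isClosedMap _ isClosed_univ
  have himg : q '' Set.univ = {c} := by
    rw [Set.image_univ]
    exact Set.eq_singleton_iff_unique_mem.2 ⟨⟨a, hc a⟩, by rintro _ ⟨b, rfl⟩; exact hc b⟩
  rw [himg] at h
  rw [hc a]
  exact (Set.mem_singleton_iff.1 ((IsLocalRing.specializes_closedPoint _).mem_closed h rfl)).symm

theorem isIso_stalk_generic {X Y : Scheme.{u}} [IsIntegral X] [IsIntegral Y] (f : X ⟶ Y) {U : Y.Opens}
    (hU : (U : Set Y).Nonempty) [IsIso (f ∣_ U)] : IsIso (f.stalkMap (genericPoint X)) := by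
  have hgen := BiratFibre.apply_genericPoint_eq f hU
  have hxU : genericPoint X ∈ f ⁻¹ᵁ U := by
    show f (genericPoint X) ∈ U
    rw [hgen]
    exact ((genericPoint_spec Y).mem_open_set_iff U.2).2 (by simpa using hU)
  exact (MorphismProperty.isomorphisms CommRingCat).arrow_mk_iso_iff
    (morphismRestrictStalkMap f U ⟨genericPoint X, hxU⟩) |>.1 (inferInstanceAs (IsIso _))

variable {R : Type u} [CommRing R] [IsDomain R] [IsDiscreteValuationRing R]

/-- The existence of Castelnuovo contractions, as a hypothesis. -/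
def HasCastelnuovo (X : Over (Spec (CommRingCat.of R))) : Prop :=
  ∀ (E : ArSurf.VertComp R X) (k' : Type u) [Field k'] [Algebra (IsLocalRing.ResidueField R) k']
    [FiniteDimensional (IsLocalRing.ResidueField R) k'] (e : E.curve.left ≅ CohB1.ProjSpace 1 k')
    (_ : e.hom ≫ (CohB1.ProjSpace 1 k' ↘ Spec (CommRingCat.of k')) ≫
      Spec.map (CommRingCat.ofHom (algebraMap (IsLocalRing.ResidueField R) k')) = E.curve.hom)
    (L : X.left.Modules) (_ : ClSub.IsInverseOf L (ClSub.idealMod E.ι.ker))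
    (_ : ArSurf.inter R X L E = -(Module.finrank (IsLocalRing.ResidueField R) k' : ℤ)),
    ∃ (Y : Over (Spec (CommRingCat.of R))) (f : X ⟶ Y) (y : Y.left) (hy : IsClosed ({y} : Set Y.left)),
      ArSurf.IsArithSurface R Y ∧ Set.range (E.ι ≫ f.left) = {y} ∧
      (f.left ⁻¹ᵁ (⟨{y}ᶜ, hy.isOpen_compl⟩ : Y.left.Opens) : Set X.left) = (Set.range E.ι)ᶜ ∧
      IsIso (f.left ∣_ (⟨{y}ᶜ, hy.isOpen_compl⟩ : Y.left.Opens))

variable {Y : Over (Spec (CommRingCat.of R))} [IsIntegral Y.left] [IsProper Y.hom]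

/-- The codimension one points at which a morphism is not a local isomorphism. -/
def bad {X : Over (Spec (CommRingCat.of R))} (g : X ⟶ Y) : Set X.left :=
  {ξ | ¬ IsIso (g.left.stalkMap ξ) ∧ ringKrullDim (X.left.presheaf.stalk ξ) = 1}

/-- One contraction step. -/
theorem exists_smaller {X : Over (Spec (CommRingCat.of R))} (hX : ArSurf.IsArithSurface R X)
    (hcast : HasCastelnuovo X) (g : X ⟶ Y)
    (U : Y.left.Opens) (hU : (U : Set Y.left).Nonempty) (hiso : IsIso (g.left ∣_ U))
    {E : Scheme.{u}} (ι : E ⟶ X.left) [IsClosedImmersion ι] (hE : Models.IsExcCurve ι) (y₀ : Y.left)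
    (hy₀ : Set.range ((ι ≫ g.left).base : E → Y.left) = {y₀}) :
    ∃ (X₂ : Over (Spec (CommRingCat.of R))) (g₂ : X₂ ⟶ Y) (U₂ : Y.left.Opens),
      ArSurf.IsArithSurface R X₂ ∧ (U₂ : Set Y.left).Nonempty ∧ IsIso (g₂.left ∣_ U₂) ∧
      (bad g₂).ncard < (bad g).ncard := by
  haveI := isProper_hom hX
  obtain ⟨hreg, hint, hdim2, hflat, -⟩ := id hX
  haveI := hint
  haveI := hiso
  haveI : IsProper g.left := by
    haveI : IsProper (g.left ≫ Y.hom) := by rw [Over.w g]; infer_instance
    exact IsProper.of_comp g.left Y.hom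
  haveI : IsLocallyNoetherian X.left := LocallyOfFiniteType.isLocallyNoetherian X.hom
  haveI : CompactSpace X.left := QuasiCompact.compactSpace_of_compactSpace X.hom
  haveI : IsNoetherian X.left := {}
  have hgbir := isIso_stalk_generic g.left hU
  have hdX : ∀ x : X.left, ringKrullDim (X.left.presheaf.stalk x) ≤ 2 := fun x =>
    (SchTop.ringKrullDim_stalk_le x).trans hdim2.le
  -- the vertical component
  obtain ⟨-, k, hk, e, -⟩ := id hE
  haveI : IsIntegral (CohB1.ProjSpace 1 k) := H23.PnChart.isIntegral_projSpace 1 k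
  haveI : Nonempty E := ⟨e.hom (genericPoint _)⟩
  haveI : IsIntegral E := isIntegral_of_isOpenImmersion e.inv
  have hgy : ∀ a, g.left (ι a) = y₀ := fun a => by
    have h : (ι ≫ g.left) a ∈ Set.range ((ι ≫ g.left).base : E → Y.left) := ⟨a, rfl⟩
    rw [hy₀] at h
    exact h
  have hcl : ∀ a, X.hom (ι a) = IsLocalRing.closedPoint R := fun a => by
    rw [← Scheme.Hom.comp_apply]
    refine closedPoint_of_closed_range (ι ≫ X.hom) (Y.hom y₀) (fun b => ?_) a
    rw [Scheme.Hom.comp_apply, ← Over.w g, Scheme.Hom.comp_apply, hgy b]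
  obtain ⟨Γ, hΓ, e', he'⟩ := MinModel.exists_vertComp ι k e hcl
  haveI := Γ.isClosedImmersion
  haveI := Γ.isIntegral
  have hΓe : Models.IsExcCurve Γ.ι :=
    ExcTransport.isExcCurve_of_ker ι Γ.ι (SurfSeq.ker_eq_of_range ι Γ.ι hΓ.symm) hE
  obtain ⟨L, hL⟩ := exists_inverse_vert hX Γ
  obtain ⟨h1, hin⟩ := ExcCrit.invariants_of_exc Γ (heff_vert hX Γ) hL hΓe
  obtain ⟨k', i1, i2, hfin, e₁, he₁, hd⟩ := isLine_of_invariants hX hL h1 hin
  haveI := hfin
  obtain ⟨X₂, f, y, hy, hX₂, hrange, hpre, hoff⟩ := hcast Γ k' e₁ he₁ L hL (by rw [hin, hd])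
  haveI := hoff
  obtain ⟨hreg₂, hint₂, hdim₂, hflat₂, -⟩ := id hX₂
  haveI := hint₂
  haveI := isProper_hom hX₂
  haveI : IsLocallyNoetherian X₂.left := LocallyOfFiniteType.isLocallyNoetherian X₂.hom
  haveI : CompactSpace X₂.left := QuasiCompact.compactSpace_of_compactSpace X₂.hom
  haveI : IsNoetherian X₂.left := {}
  haveI : IsProper f.left := by
    haveI : IsProper (f.left ≫ X₂.hom) := by rw [Over.w f]; infer_instance
    exact IsProper.of_comp f.left X₂.hom
  have hd₂ : ∀ x : X₂.left, ringKrullDim (X₂.left.presheaf.stalk x) ≤ 2 := fun x =>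
    (SchTop.ringKrullDim_stalk_le x).trans hdim₂.le
  set V : X₂.left.Opens := ⟨{y}ᶜ, hy.isOpen_compl⟩ with hVdef
  have hfV : ∀ x, f.left x ≠ y ↔ x ∉ Set.range Γ.ι := fun x => by
    rw [← Set.mem_compl_iff _ x, ← hpre]
    rfl
  have hfy : ∀ x, f.left x = y ↔ x ∈ Set.range Γ.ι := fun x => by
    simpa using not_congr (hfV x)
  obtain ⟨p, q, hpq, hsp⟩ := MinModel.exists_two_points k e
  have hrE : ∀ a, ι a ∈ Set.range Γ.ι := fun a => hΓ.ge ⟨a, rfl⟩
  have hVne : (V : Set X₂.left).Nonempty := by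
    by_contra hVe
    rw [Set.not_nonempty_iff_eq_empty] at hVe
    have hall : ∀ z : X₂.left, z = y := fun z => by
      by_contra hz
      exact (hVe.le (hz : z ∈ (V : Set X₂.left))).elim
    have : topologicalKrullDim X₂.left ≤ 0 := by
      haveI : Subsingleton X₂.left := ⟨fun a b => (hall a).trans (hall b).symm⟩
      exact topologicalKrullDim_zero_of_discreteTopology _
    rw [hdim₂] at this
    exact absurd this (by decide)
  have hfbir := isIso_stalk_generic f.left hVne
  have hfiso : ∀ x, f.left x ≠ y → IsIso (f.left.stalkMap x) := fun x hx =>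
    (MorphismProperty.isomorphisms CommRingCat).arrow_mk_iso_iff
      (morphismRestrictStalkMap f.left V ⟨x, hx⟩) |>.1 (inferInstanceAs (IsIso _))
  have hy2 : ¬ ringKrullDim (X₂.left.presheaf.stalk y) ≤ 1 := fun h => by
    have h2 : f.left (ι p) = y := (hfy _).2 (hrE p)
    have h3 : f.left (ι q) = y := (hfy _).2 (hrE q)
    have hi : IsIso (f.left.stalkMap (ι p)) :=
      SurfSeq.isIso_of_dim_le_one f.left hfbir hreg₂ (ι p) (by rw [h2]; exact h)
    exact hpq (ι.isClosedEmbedding.injective (SurfSeq.eq_of_isIso f.left hfbir (h2.trans h3.symm) hi).symm)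
  -- the contraction is a blowing up followed by an isomorphism
  have hseq : Models.IsContractionSeq f.left := by
    simpa using SurfSeq.seq_of_birational (hX := hreg) (hdX := hdX) f.left hfbir hreg₂ hd₂ X₂.left (𝟙 _)
      (Models.IsContractionSeq.iso (Iso.refl X₂.left))
  rcases seq_cases hseq with h | ⟨E', ι', hι', Z, b, r, hE', hb, hbr⟩
  · haveI := h
    exact absurd (f.left.homeomorph.injective (((hfy _).2 (hrE p)).trans ((hfy _).2 (hrE q)).symm))
      fun h' => hpq (ι.isClosedEmbedding.injective h')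
  haveI := hι'
  obtain ⟨hNZ, hPb, z, hz, hzr, hzreg, hzdim, hbl⟩ := id hb
  haveI := hNZ
  haveI := hPb
  obtain ⟨-, k₂, hk₂, e₂, -⟩ := id hE'
  haveI : IsIntegral (CohB1.ProjSpace 1 k₂) := H23.PnChart.isIntegral_projSpace 1 k₂
  haveI : Nonempty E' := ⟨e₂.hom (genericPoint _)⟩
  haveI : IsIntegral E' := isIntegral_of_isOpenImmersion e₂.inv
  obtain ⟨p', q', hpq', hsp'⟩ := MinModel.exists_two_points k₂ e₂
  have hbz : ∀ a, b (ι' a) = z := fun a => by
    have h : (ι' ≫ b) a ∈ Set.range ((ι' ≫ b).base : E' → Z) := ⟨a, rfl⟩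
    rw [hzr] at h
    exact h
  have hfz : ∀ a, f.left (ι' a) = r z := fun a => by rw [← hbr, Scheme.Hom.comp_apply, hbz a]
  have hrz : r z = y := by
    by_contra hne
    have hi := hfiso (ι' p') (by rw [hfz]; exact hne)
    exact hpq' (ι'.isClosedEmbedding.injective
      (SurfSeq.eq_of_isIso f.left hfbir ((hfz p').trans (hfz q').symm) hi).symm)
  have hsub : Set.range ι' ⊆ Set.range Γ.ι := by
    rintro _ ⟨a, rfl⟩
    exact (hfy _).1 ((hfz a).trans hrz)
  have heq : Set.range ι' = Set.range Γ.ι := by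
    refine hsub.antisymm ?_
    have hclosed : IsClosed (Γ.ι ⁻¹' Set.range ι') := ι'.isClosedEmbedding.isClosed_range.preimage Γ.ι.continuous
    obtain ⟨a, ha⟩ := hsub ⟨p', rfl⟩
    obtain ⟨c, hc⟩ := hsub ⟨q', rfl⟩
    have hsp'' : a ⤳ c := Γ.ι.isClosedEmbedding.isInducing.specializes_iff.1 (by
      rw [ha, hc]; exact hsp'.map ι'.continuous)
    have hac : a ≠ c := fun h => hpq' (ι'.isClosedEmbedding.injective (by rw [← ha, ← hc, h]))
    have hagen : a = genericPoint Γ.curve.left := by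
      by_contra hne
      have h1 : a < genericPoint Γ.curve.left :=
        lt_iff_le_not_ge.2 ⟨genericPoint_specializes a, fun h => hne (h.antisymm (genericPoint_specializes a)).symm⟩
      have h2 : c < a := lt_iff_le_not_ge.2 ⟨hsp'', fun h => hac (le_antisymm h hsp'')⟩
      have h3 := Order.LTSeries.length_le_krullDim (((RelSeries.singleton _ c).snoc a h2).snoc _ (by simpa using h1))
      have h4 : Order.krullDim Γ.curve.left = 1 := by
        have h5 := Γ.dim_eq
        rwa [topologicalKrullDim, Order.krullDim_eq_of_orderIso irreducibleSetEquivPoints] at h5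
      exact absurd (h3.trans h4.le) (by simp)
    rintro _ ⟨w, rfl⟩
    exact ((genericPoint_specializes w).mem_closed hclosed (hagen ▸ ⟨p', ha.symm⟩) :)
  -- the second factor is an isomorphism
  obtain ⟨hintZ, hNZ', hregZ, hsurjb⟩ : IsIntegral Z ∧ IsNoetherian Z ∧
      (∀ w : Z, IsRegularLocalRing (Z.presheaf.stalk w)) ∧ Function.Surjective b := by
    have hne : ∀ w : Z, w ≠ z → ∃ x, b x = w := fun w hw => by
      haveI := PointBlow.isIso_off hz hbl
      obtain ⟨v, hv⟩ := (b ∣_ (⟨({z} : Set Z)ᶜ, hz.isOpen_compl⟩ : Z.Opens)).surjective ⟨w, hw⟩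
      refine ⟨v.1, ?_⟩
      have := congrArg Subtype.val hv
      rwa [morphismRestrict_base_coe] at this
    have hs : Function.Surjective b := fun w => by
      by_cases hw : w = z
      · exact hw ▸ ⟨_, hbz p'⟩
      · exact hne w hw
    have hr' : ∀ w : Z, IsRegularLocalRing (Z.presheaf.stalk w) := fun w => by
      by_cases hw : w = z
      · exact hw ▸ hzreg
      obtain ⟨x, rfl⟩ := hs w
      haveI := PointBlow.isIso_stalkMap_off hz hbl hw
      haveI := hreg x
      exact IsRegularLocalRing.of_ringEquiv (asIso (b.stalkMap x)).symm.commRingCatIsoToRingEquiv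
    haveI : IrreducibleSpace Z := by
      have h : IsIrreducible (Set.univ : Set Z) := by
        rw [← hs.range_eq, ← Set.image_univ]
        exact (IrreducibleSpace.isIrreducible_univ X.left).image _ b.continuous.continuousOn
      exact (irreducibleSpace_def Z).2 h
    exact ⟨H26.SmoothMinimal.isIntegral_of_regular hr', hNZ, hr', hs⟩
  haveI := hintZ
  haveI : IsProper (b ≫ r) := by rw [hbr]; infer_instance
  haveI : IsProper r := by
    haveI : Surjective b := ⟨hsurjb⟩
    haveI : IsProper (r ≫ X₂.hom) := by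
      haveI : IsProper (b ≫ r ≫ X₂.hom) := by rw [← Category.assoc, hbr, Over.w f]; infer_instance
      exact MinModel.isProper_of_blowUp b hbl _
    exact IsProper.of_comp r X₂.hom
  have hrbir : IsIso (r.stalkMap (genericPoint Z)) := by
    have hbg : b (genericPoint X.left) = genericPoint Z := by
      refine ((genericPoint_spec Z).eq ?_).symm
      have h := (genericPoint_spec X.left).image b.continuous
      rw [Set.image_univ, hsurjb.range_eq, closure_univ] at h
      exact h
    have hne : b (genericPoint X.left) ≠ z := fun h => by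
      have h1 : f.left (genericPoint X.left) = y := by rw [← hbr, Scheme.Hom.comp_apply, h, hrz]
      obtain ⟨a, ha⟩ := (hfy _).1 h1
      have h2 := (Γ.ι ≫ X.hom) a
      have hcl' : X.hom (Γ.ι a) = IsLocalRing.closedPoint R := by
        obtain ⟨a', ha'⟩ := hΓ.le ⟨a, rfl⟩
        rw [← ha']
        exact hcl a'
      rw [ha, ArtinTriv.apply_generic X] at hcl'
      exact HorizDeg.generic_ne_closed hcl'
    have h1 : IsIso ((b ≫ r).stalkMap (genericPoint X.left)) := by
      rw [Scheme.Hom.stalkMap_congr_hom _ _ hbr]; haveI := hfbir; infer_instance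
    rw [Scheme.Hom.stalkMap_comp] at h1
    haveI := PointBlow.isIso_stalkMap_off hz hbl hne
    have h2 := @IsIso.of_isIso_comp_right _ _ _ _ _ (r.stalkMap _) (b.stalkMap (genericPoint X.left)) inferInstance h1
    rwa [hbg] at h2
  have hriso : ∀ w, IsIso (r.stalkMap w) := fun w => by
    by_contra hw
    obtain ⟨ξ, -, hξ, hξd⟩ := SurfSeq.exists_dim_one r hrbir hreg₂ w hw
    have hξz : ξ ≠ z := fun h => by
      rw [h, hzdim] at hξd
      exact absurd hξd (by decide)
    obtain ⟨x, rfl⟩ := hsurjb ξ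
    have hxy : f.left x ≠ y := fun h => by
      obtain ⟨a, ha⟩ := heq.ge ((hfy _).1 h)
      exact hξz (by rw [← ha]; exact hbz a)
    refine hξ ?_
    have h1 : IsIso ((b ≫ r).stalkMap x) := by
      rw [Scheme.Hom.stalkMap_congr_hom _ _ hbr]; haveI := hfiso x hxy; infer_instance
    rw [Scheme.Hom.stalkMap_comp] at h1
    haveI := PointBlow.isIso_stalkMap_off hz hbl hξz
    exact @IsIso.of_isIso_comp_right _ _ _ _ _ (r.stalkMap _) (b.stalkMap x) inferInstance h1
  have hrinj : Function.Injective r := fun w w' h => (SurfSeq.eq_of_isIso r hrbir h (hriso w)).symm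
  have hrsurj : Function.Surjective r := fun w =>
    (genericPoint_specializes w).mem_closed r.isClosedMap.isClosed_range
      ⟨genericPoint Z, SurfSeq.map_generic r hrbir⟩
  haveI : IsIso r := by
    haveI := hriso
    haveI : IsOpenImmersion r := IsOpenImmersion.of_isIso_stalkMap r
      (Equiv.toHomeomorphOfContinuousClosed (Equiv.ofBijective r ⟨hrinj, hrsurj⟩) r.continuous r.isClosedMap).isOpenEmbedding
    haveI : Surjective r := ⟨hrsurj⟩
    exact (isIso_iff_isOpenImmersion_and_surjective r).2 ⟨inferInstance, inferInstance⟩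
  have hy₀' : Set.range ((ι' ≫ g.left).base : E' → Y.left) = {y₀} := by
    refine Set.eq_singleton_iff_unique_mem.2 ⟨?_, ?_⟩
    · obtain ⟨a, ha⟩ := heq.ge (hrE p)
      exact ⟨a, (congrArg g.left ha).trans (hgy p)⟩
    · rintro _ ⟨a, rfl⟩
      obtain ⟨a', ha'⟩ := hΓ.le (hsub ⟨a, rfl⟩)
      exact (congrArg g.left ha').symm.trans (hgy a')
  obtain ⟨ψ, hψ, -⟩ := Contraction7.factor b hE' hb g.left y₀ hy₀'
  let g₂' : X₂.left ⟶ Y.left := inv r ≫ ψ
  have hfg : f.left ≫ g₂' = g.left := by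
    simp only [g₂', ← hbr, Category.assoc, IsIso.hom_inv_id_assoc]
    exact hψ
  have hfsurj : Function.Surjective f.left := fun w => by
    obtain ⟨w', rfl⟩ := hrsurj w
    obtain ⟨x, rfl⟩ := hsurjb w'
    exact ⟨x, by rw [← hbr, Scheme.Hom.comp_apply]⟩
  have hw : g₂' ≫ Y.hom = X₂.hom := by
    haveI : IsDominant f.left := ⟨by rw [DenseRange, hfsurj.range_eq]; exact dense_univ⟩
    refine ext_of_isDominant f.left ?_
    rw [← Category.assoc, hfg, Over.w g, Over.w f]
  let g₂ : X₂ ⟶ Y := Over.homMk g₂' hw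
  -- the good open set
  have hy₀cl : IsClosed ({y₀} : Set Y.left) := by
    rw [← hy₀]
    exact (ι ≫ g.left).isClosedMap.isClosed_range
  let U₂ : Y.left.Opens := U ⊓ ⟨{y₀}ᶜ, hy₀cl.isOpen_compl⟩
  have hU₂ : (U₂ : Set Y.left).Nonempty := by
    refine ⟨genericPoint Y.left, ((genericPoint_spec Y.left).mem_open_set_iff U.2).2 (by simpa using hU), fun h => ?_⟩
    have h1 : g.left (genericPoint X.left) = y₀ := (BiratFibre.apply_genericPoint_eq g.left hU).trans h
    have h2 : X.hom (genericPoint X.left) = IsLocalRing.closedPoint R := by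
      rw [← hcl p, ← Over.w g, Scheme.Hom.comp_apply, Scheme.Hom.comp_apply, h1, hgy p]
    rw [ArtinTriv.apply_generic X] at h2
    exact HorizDeg.generic_ne_closed h2
  have hsubV : g₂' ⁻¹ᵁ U₂ ≤ V := fun w hw' hwy => by
    have hwy' : w = y := hwy
    subst hwy'
    refine hw'.2 ?_
    show g₂' w = y₀
    obtain ⟨x, hx⟩ := hfsurj w
    obtain ⟨a, ha⟩ := (hfy _).1 hx
    obtain ⟨a', ha'⟩ := hΓ.le ⟨a, rfl⟩
    rw [← hx, ← Scheme.Hom.comp_apply, hfg, ← ha, ← ha']
    exact hgy a'
  have hiso₂ : IsIso (g₂' ∣_ U₂) := by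
    haveI : IsIso (g.left ∣_ U₂) := PointBlow.isIso_restrict_mono g.left inf_le_left
    haveI : IsIso (f.left ∣_ (g₂' ⁻¹ᵁ U₂)) := PointBlow.isIso_restrict_mono f.left hsubV
    have h : IsIso ((f.left ≫ g₂') ∣_ U₂) := by rw [hfg]; infer_instance
    rw [morphismRestrict_comp] at h
    exact @IsIso.of_isIso_comp_left _ _ _ _ _ (f.left ∣_ (g₂' ⁻¹ᵁ U₂)) (g₂' ∣_ U₂) inferInstance h
  refine ⟨X₂, g₂, U₂, hX₂, hU₂, hiso₂, ?_⟩
  -- the exceptional points decrease
  have hfin := SurfSeq.finite_dim_one g.left hgbir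
  set ξE := Γ.ι (genericPoint Γ.curve.left)
  have hξE : ξE ∈ bad g := by
    refine ⟨fun h => ?_, ringKrullDim_stalk_generic hdim2 Γ⟩
    obtain ⟨a, ha⟩ := hΓ.le ⟨genericPoint Γ.curve.left, rfl⟩
    have hpe : ∀ c, ι c = ξE := fun c => SurfSeq.eq_of_isIso g.left hgbir
      (show g.left ξE = g.left (ι c) by rw [show ξE = ι a from ha.symm, hgy, hgy]) h
    exact hpq (ι.isClosedEmbedding.injective ((hpe p).trans (hpe q).symm))
  have hsub2 : bad g₂ ⊆ f.left '' (bad g \ {ξE}) := by
    rintro ξ ⟨hξ, hξd⟩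
    have hξy : ξ ≠ y := fun h => hy2 (h ▸ hξd.le)
    obtain ⟨x, rfl⟩ := hfsurj ξ
    haveI := hfiso x hξy
    refine ⟨x, ⟨⟨fun h => hξ ?_, ?_⟩, fun h => hξy ((hfy _).2 ⟨_, (h : x = ξE).symm⟩)⟩, rfl⟩
    · have h1 : IsIso ((f.left ≫ g₂').stalkMap x) := by
        rw [Scheme.Hom.stalkMap_congr_hom _ _ hfg]; haveI := h; infer_instance
      rw [Scheme.Hom.stalkMap_comp] at h1
      exact @IsIso.of_isIso_comp_right _ _ _ _ _ (g₂'.stalkMap (f.left x)) (f.left.stalkMap x) inferInstance h1
    · exact (ringKrullDim_eq_of_ringEquiv (asIso (f.left.stalkMap x)).commRingCatIsoToRingEquiv).symm.trans hξd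
  have hfin' : (bad g).Finite := hfin
  calc (bad g₂).ncard ≤ (f.left '' (bad g \ {ξE})).ncard := Set.ncard_le_ncard hsub2 ((hfin'.diff).image _)
    _ ≤ (bad g \ {ξE}).ncard := Set.ncard_image_le hfin'.diff
    _ < (bad g).ncard := Set.ncard_diff_singleton_lt_of_mem hξE hfin'

/-- A minimal desingularization exists. -/
theorem exists_no_exc (hcast : ∀ X : Over (Spec (CommRingCat.of R)), ArSurf.IsArithSurface R X → HasCastelnuovo X)
    (X₁ : Over (Spec (CommRingCat.of R))) (hX₁ : ArSurf.IsArithSurface R X₁) (g₁ : X₁ ⟶ Y)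
    (U₁ : Y.left.Opens) (hU₁ : (U₁ : Set Y.left).Nonempty) (hiso₁ : IsIso (g₁.left ∣_ U₁)) :
    ∃ (X : Over (Spec (CommRingCat.of R))) (g : X ⟶ Y) (U : Y.left.Opens),
      ArSurf.IsArithSurface R X ∧ (U : Set Y.left).Nonempty ∧ IsIso (g.left ∣_ U) ∧
      ∀ (E : Scheme.{u}) (ι : E ⟶ X.left) [IsClosedImmersion ι], Models.IsExcCurve ι →
        ¬ ∃ y : Y.left, Set.range ((ι ≫ g.left).base : E → Y.left) = {y} := by
  suffices key : ∀ (n : ℕ) (X : Over (Spec (CommRingCat.of R))) (g : X ⟶ Y) (U : Y.left.Opens),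
      ArSurf.IsArithSurface R X → (U : Set Y.left).Nonempty → IsIso (g.left ∣_ U) → (bad g).ncard = n →
      ∃ (X : Over (Spec (CommRingCat.of R))) (g : X ⟶ Y) (U : Y.left.Opens),
      ArSurf.IsArithSurface R X ∧ (U : Set Y.left).Nonempty ∧ IsIso (g.left ∣_ U) ∧
      ∀ (E : Scheme.{u}) (ι : E ⟶ X.left) [IsClosedImmersion ι], Models.IsExcCurve ι →
        ¬ ∃ y : Y.left, Set.range ((ι ≫ g.left).base : E → Y.left) = {y} from
    key _ X₁ g₁ U₁ hX₁ hU₁ hiso₁ rfl
  intro n
  induction n using Nat.strong_induction_on with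
  | _ n ih =>
    intro X g U hX hU hiso hn
    by_cases h : ∀ (E : Scheme.{u}) (ι : E ⟶ X.left) [IsClosedImmersion ι], Models.IsExcCurve ι →
        ¬ ∃ y : Y.left, Set.range ((ι ≫ g.left).base : E → Y.left) = {y}
    · exact ⟨X, g, U, hX, hU, hiso, h⟩
    · simp only [not_forall, not_not] at h
      obtain ⟨E, ι, hι, hE, y, hy⟩ := h
      haveI := hι
      obtain ⟨X₂, g₂, U₂, hX₂, hU₂, hiso₂, hlt⟩ := exists_smaller hX (hcast X hX) g U hU hiso ι hE y hy
      exact ih _ (hn ▸ hlt) X₂ g₂ U₂ hX₂ hU₂ hiso₂ rfl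

end Groth.Agent.H26.Adjunction
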