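import Groth.Agent.H26.Adjunction.Vertical
import Groth.Agent.H26.Adjunction.Degree
import Groth.Agent.H26.Chain
import Groth.Agent.H26.ArtinTriv.Div
import Groth.Agent.Lib.HomPushSections
import Groth.Agent.FComplLib.IdealComap
import Groth.Agent.AmpleVan.ThickPush
import Groth.Agent.H9Misc.ClosedPushFull
import Groth.Agent.RelCurveDiv.Sum
import Groth.Agent.AGF20Lib.PicThk
import Groth.Agent.AmpleDesc5.Stage

/-!
# Vertical divisors of negative adjunction degree: no `H¹` and no degree zero line bundles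
-/

noncomputable section

set_option autoImplicit false
set_option linter.style.haveILetI false
set_option linter.unusedSectionVars false
set_option backward.isDefEq.respectTransparency false
set_option backward.isDefEq.respectTransparency.types false
set_option maxHeartbeats 1000000

universe u

open CategoryTheory CategoryTheory.Limits AlgebraicGeometry TopologicalSpace Opposite
open Groth.Agent.H23 Groth.Agent.H28
open Groth.Agent.PnCoh.Finite (mapLin deltaLin)
open scoped Groth.Agent.H23.PicMul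

namespace Groth.Agent.H26.Adjunction

open Groth.Agent

variable {R : Type u} [CommRing R] [IsDomain R] [IsDiscreteValuationRing R] {X : Over (Spec (CommRingCat.of R))}

/-- `0 → O_Γ(-J) → O_{J·Γ} → O_J → 0`. -/
theorem exists_step_ses [IsProper X.hom] (Γc : ArSurf.VertComp R X) {J : X.left.IdealSheafData}
    (hJ : BlowUp.IsEffCartierIdeal J) (hle : J * Γc.ι.ker ≤ J) :
    ∃ (f : (Scheme.Modules.pushforward Γc.ι).obj ((Scheme.Modules.pullback Γc.ι).obj (ClSub.idealMod J)) ⟶
        ClSub.quotMod (J * Γc.ι.ker)) (w : f ≫ Chain.quotMap hle = 0),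
      (ShortComplex.mk f (Chain.quotMap hle) w).ShortExact := by
  haveI : IsLocallyNoetherian X.left := LocallyOfFiniteType.isLocallyNoetherian X.hom
  have hA := IdealCl.isInvertible_idealMod hJ
  let A := ClSub.idealMod J
  let K := Γc.ι.ker
  haveI := IdealCl.isEquivalence_tensor hA
  haveI : Mono (ClSub.idealModι K) := inferInstanceAs (Mono (kernel.ι _))
  haveI : Mono (ClSub.idealModι J) := inferInstanceAs (Mono (kernel.ι _))
  haveI : Mono (DivisorExt.mulIdeal K A) := by
    haveI : Mono ((DCoh.tensorBi.obj A).map (ClSub.idealModι K)) := inferInstance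
    exact mono_comp _ _
  let f := DivisorExt.mulIdeal K A
  let g : A ⟶ Coh.structureModule X.left := ClSub.idealModι J
  let T : ShortComplex X.left.Modules :=
    ShortComplex.mk (cokernel.map f (f ≫ g) (𝟙 _) g (by simp)) (cokernel.map (f ≫ g) g f (𝟙 _) (by simp))
      ((kernelCokernelCompSequence_exact f g).toIsComplex.zero' 3 4 5)
  have hT : T.ShortExact := by
    have h1 : T.Exact := (kernelCokernelCompSequence_exact f g).exact' 3 4 5
    haveI : Mono T.f := ((kernelCokernelCompSequence_exact f g).exact' 2 3 4).mono_g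
      ((isZero_kernel_of_mono g).eq_of_src _ _)
    haveI : Epi T.g := inferInstanceAs (Epi ((kernelCokernelCompSequence f g).map' 4 5))
    exact ShortComplex.ShortExact.mk h1
  obtain ⟨e₁⟩ := DivisorExt.nonempty_cokernel_mulIdeal K A
  obtain ⟨e₂⟩ := EulerFibre.nonempty_tensor_quotMod_iso Γc hA
  obtain ⟨e, he⟩ : ∃ e : (DCoh.tensorBi.obj A).obj (ClSub.idealMod K) ≅ ClSub.idealMod (J * K),
      e.hom ≫ ClSub.idealModι (J * K) = f ≫ g := EulerFibre.exists_mul_iso K J hJ
  have hπ : ∀ I : X.left.IdealSheafData, cokernel.π (ClSub.idealModι I) ≫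
      (IsColimit.coconePointUniqueUpToIso (cokernelIsCokernel (ClSub.idealModι I))
        (DivisorExt.ideal_shortExact I).gIsCokernel).hom = ClSub.toSubscheme I := fun I =>
    IsColimit.comp_coconePointUniqueUpToIso_hom (cokernelIsCokernel (ClSub.idealModι I)) _ WalkingParallelPair.one
  let qJ := IsColimit.coconePointUniqueUpToIso (cokernelIsCokernel (ClSub.idealModι J))
    (DivisorExt.ideal_shortExact J).gIsCokernel
  let qK := IsColimit.coconePointUniqueUpToIso (cokernelIsCokernel (ClSub.idealModι (J * K)))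
    (DivisorExt.ideal_shortExact (J * K)).gIsCokernel
  let qI := cokernel.mapIso (f ≫ g) (ClSub.idealModι (J * K)) e (Iso.refl _) (by simp [he]) ≪≫ qK
  have hπJ : cokernel.π g ≫ qJ.hom = ClSub.toSubscheme J :=
    hπ J
  have hπI : cokernel.π (f ≫ g) ≫ qI.hom = ClSub.toSubscheme (J * K) := by
    simp only [qI, Iso.trans_hom, cokernel.mapIso_hom, cokernel.π_desc_assoc, Iso.refl_hom, Category.id_comp]
    exact hπ (J * K)
  have hq : qI.hom ≫ Chain.quotMap hle = T.g ≫ qJ.hom := by
    rw [← cancel_epi (cokernel.π (f ≫ g)), ← Category.assoc, hπI, Chain.toSubscheme_quotMap]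
    refine hπJ.symm.trans ?_
    show _ = cokernel.π (f ≫ g) ≫ cokernel.map (f ≫ g) g f (𝟙 _) (by simp) ≫ qJ.hom
    rw [cokernel.π_desc_assoc, Category.id_comp]
  refine ⟨(e₁ ≪≫ e₂).inv ≫ T.f ≫ qI.hom, ?_, ?_⟩
  · simp only [Category.assoc, hq]
    simp
  · exact ShortComplex.shortExact_of_iso (ShortComplex.isoMk (e₁ ≪≫ e₂) qI qJ (by simp) hq) hT

theorem subsingleton_mid {S : ShortComplex X.left.Modules} (hS : S.ShortExact) (i : ℕ)
    (h₁ : Subsingleton (Coh.HH X.left S.X₁ i)) (h₃ : Subsingleton (Coh.HH X.left S.X₃ i)) :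
    Subsingleton (Coh.HH X.left S.X₂ i) := by
  refine ⟨fun a b => sub_eq_zero.1 ?_⟩
  have h : a - b ∈ LinearMap.ker (mapLin R S.g i) := Subsingleton.elim _ _
  rw [CurveCohLib.ker_mapLin_g R hS i] at h
  obtain ⟨c, hc⟩ := h
  rw [← hc, Subsingleton.elim c 0, map_zero]

theorem homOfTop_one {Z : Scheme.{u}} {P : Z.Modules} (t : Γ(P, ⊤)) :
    (QCoh.homOfTop t).app ⊤ (1 : Γ(Z, ⊤)) = t := by
  rw [QCoh.homOfTop_app, one_smul]
  exact AModX.res_self (M := P) t

theorem exists_frame_of_restrict {Z : Scheme.{u}} {L : Z.Modules} {U : Z.Opens}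
    (φ : L.restrict U.ι ≅ Coh.structureModule U.toScheme) : ∃ e : Γ(L, U), InvX.IsFrame e := by
  let e' : Γ(L.restrict U.ι, ⊤) := φ.inv.app ⊤ (1 : Γ(U.toScheme, ⊤))
  refine ⟨AModX.res L (le_of_eq U.ι_image_top.symm) (show Γ(L, U.ι ''ᵁ ⊤) from e'), fun V hV => ?_⟩
  obtain ⟨V', rfl⟩ : ∃ V', U.ι ''ᵁ V' = V := ⟨U.ι ⁻¹ᵁ V, by
    rw [Scheme.Hom.image_preimage_eq_opensRange_inf, Scheme.Opens.opensRange_ι]
    exact inf_eq_right.mpr hV⟩
  have hb : Function.Bijective (φ.inv.app V') :=
    (ConcreteCategory.isIso_iff_bijective _).1 (Scheme.Modules.Hom.isIso_iff_isIso_app.1 inferInstance V')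
  have key : ∀ r : Γ(Z, U.ι ''ᵁ V'), (show Γ(L.restrict U.ι, V') from
      r • AModX.res L (hV : U.ι ''ᵁ V' ≤ U) (AModX.res L (le_of_eq U.ι_image_top.symm)
        (show Γ(L, U.ι ''ᵁ ⊤) from e'))) = φ.inv.app V' ((U.ι.appIso V').hom r) := by
    intro r
    have h1 : φ.inv.app V' (1 : Γ(U.toScheme, V')) = AModX.res (L.restrict U.ι) le_top e' := by
      rw [← AModX.app_res]
      exact congrArg (φ.inv.app V') (map_one (AModX.resR (le_top : V' ≤ ⊤))).symm
    conv_rhs => rw [show (U.ι.appIso V').hom r = (U.ι.appIso V').hom r • (1 : Γ(U.toScheme, V')) from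
      (mul_one _).symm]
    erw [Scheme.Modules.Hom.app_smul, h1]
    rw [AModX.res_res]
    show r • AModX.res L (U.ι.image_mono (le_top : V' ≤ ⊤)) (show Γ(L, U.ι ''ᵁ ⊤) from e') = (U.ι.appIso V').inv.hom ((U.ι.appIso V').hom r) •
      AModX.res L (U.ι.image_mono (le_top : V' ≤ ⊤)) (show Γ(L, U.ι ''ᵁ ⊤) from e')
    rw [Iso.hom_inv_id_apply]
  have he2 : (fun r : Γ(Z, U.ι ''ᵁ V') => (show Γ(L.restrict U.ι, V') from
      r • AModX.res L (hV : U.ι ''ᵁ V' ≤ U) (AModX.res L (le_of_eq U.ι_image_top.symm)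
        (show Γ(L, U.ι ''ᵁ ⊤) from e')))) = (φ.inv.app V') ∘ (U.ι.appIso V').hom := funext key
  have hiso : Function.Bijective (U.ι.appIso V').hom :=
    (ConcreteCategory.isIso_iff_bijective _).1 inferInstance
  exact (congrArg Function.Bijective he2).mpr (hb.comp hiso)

/-- A section generating everywhere is an isomorphism. -/
theorem isIso_of_gen {Z : Scheme.{u}} {M : Z.Modules} (s : Coh.structureModule Z ⟶ M)
    (h : ∀ x, x ∈ CohB1.genLocus M s) : IsIso s := by
  have hf : InvX.IsFrame (InvX.one s) := InvX.isFrame_of_germ fun x hx => by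
    obtain ⟨U, hxU, hU⟩ := InvX.mem_genLocus (h x)
    have h1 := hU.germ_bijective hxU
    rwa [InvX.germ_res' (le_top : U ≤ ⊤) hxU] at h1
  refine Scheme.Modules.Hom.isIso_iff_isIso_app.2 fun W => (ConcreteCategory.isIso_iff_bijective _).2 ?_
  have key : (s.app W : _ → _) = fun r : Γ(Z, W) => r • AModX.res M (le_top : W ≤ ⊤) (InvX.one s) :=
    funext fun r => InvX.app_eq_smul s r
  rw [key]
  exact hf W le_top

theorem isFrame_gen {Z : Scheme.{u}} {M : Z.Modules} (s : Coh.structureModule Z ⟶ M) {V : Z.Opens}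
    (h : V ≤ CohB1.genLocus M s) : InvX.IsFrame (AModX.res M (le_top : V ≤ ⊤) (InvX.one s)) := by
  refine InvX.isFrame_of_germ fun x hx => ?_
  obtain ⟨U, hxU, hU⟩ := InvX.mem_genLocus (h hx)
  have h1 := hU.germ_bijective hxU
  rw [InvX.germ_res' (le_top : U ≤ ⊤) hxU] at h1
  rw [InvX.germ_res' (le_top : V ≤ ⊤) hx]
  exact h1

theorem ker_self_comap' {Z : Scheme.{u}} (I : Z.IdealSheafData) : I.comap I.subschemeι = ⊥ := by
  have h := FComplLib.ker_self_comap I.subschemeι
  rwa [Scheme.IdealSheafData.ker_subschemeι] at h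

theorem ker_comp_comap_mono {Z V Y : Scheme.{u}} (j : Z ⟶ V) (i : V ⟶ Y) [IsClosedImmersion j] [Mono i]
    [IsClosedImmersion (j ≫ i)] : (j ≫ i).ker.comap i = j.ker := by
  rw [← Scheme.IdealSheafData.ker_fst_of_isClosedImmersion]
  have hp : IsPullback j (𝟙 Z) i (j ≫ i) :=
    ⟨⟨by rw [Category.id_comp]⟩, ⟨PullbackCone.IsLimit.mk _ (fun s => s.snd)
      (fun s => by rw [← cancel_mono i, Category.assoc]; exact s.condition.symm)
      (fun s => Category.comp_id _)
      (fun s m _ h => by rw [← h, Category.comp_id])⟩⟩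
  conv_rhs => rw [← hp.isoPullback_hom_fst, Scheme.Hom.ker_comp_of_isIso]

theorem exists_decrease {r : ℕ} (a : Fin r → ℕ) (c : Fin r → ℤ)
    (h : ∑ i, (a i : ℤ) * c i < 0) : ∃ i, 1 ≤ a i ∧ c i < 0 := by
  by_contra hne
  simp only [not_exists, not_and, not_lt] at hne
  refine absurd h (not_lt.2 (Finset.sum_nonneg fun i _ => ?_))
  rcases Nat.eq_zero_or_pos (a i) with h0 | hpos
  · simp [h0]
  · exact mul_nonneg (Int.natCast_nonneg _) (hne i hpos)

section Family

variable {r : ℕ} {Γ : Fin r → ArSurf.VertComp R X} {L : Fin r → X.left.Modules}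
  (hX : ArSurf.IsArithSurface R X)
  (hL : ∀ j, ClSub.IsInverseOf (L j) (ClSub.idealMod (Γ j).ι.ker))
  {ω : X.left.Modules} (hω : Canon.IsCanonical X.hom ω)

/-- The sequence of numerical conditions. -/
def NegBelow (Γ : Fin r → ArSurf.VertComp R X) (L : Fin r → X.left.Modules) (ω : X.left.Modules) (a : Fin r → ℕ) : Prop :=
  ∀ a' : Fin r → ℕ, a' ≤ a → a' ≠ 0 → adjForm Γ L ω a' < 0

omit hX hL hω in
theorem NegBelow.mono {a b : Fin r → ℕ} (h : NegBelow Γ L ω a) (hab : b ≤ a) : NegBelow Γ L ω b :=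
  fun a' ha' hne => h a' (ha'.trans hab) hne

include hX hL hω in
/-- The numerical step: removing a suitable curve keeps the kernel of degree above the canonical degree. -/
theorem exists_step {a : Fin r → ℕ} (ha : a ≠ 0) (hneg : NegBelow Γ L ω a) :
    ∃ (i : Fin r) (b : Fin r → ℕ), b + Pi.single i 1 = a ∧
      -2 * FGA.eulerCharLE (IsLocalRing.ResidueField R) (Γ i).curve.left (Coh.structureModule (Γ i).curve.left) 1 <
        ArSurf.inter R X (ClSub.idealMod (∏ j, (Γ j).ι.ker ^ b j)) (Γ i) := by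
  classical
  haveI := isProper_hom hX
  obtain ⟨i, hi, hc⟩ := exists_decrease a _ (hneg a le_rfl ha)
  refine ⟨i, fun j => a j - if j = i then 1 else 0, funext fun j => ?_, ?_⟩
  · by_cases h : j = i
    · subst h; simp; omega
    · simp [h]
  · rw [Chain.inter_prod (fun j => heff_vert hX (Γ j)) hL]
    have hadj := inter_add_inter hX (Γ i) (L i) (hL i) ω hω
    have hsum : ∑ j, (a j : ℤ) * ArSurf.inter R X (L j) (Γ i) =
        ∑ j, ((a j - if j = i then 1 else 0 : ℕ) : ℤ) * ArSurf.inter R X (L j) (Γ i) + ArSurf.inter R X (L i) (Γ i) := by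
      have h1 : ∀ j, ((a j - if j = i then 1 else 0 : ℕ) : ℤ) * ArSurf.inter R X (L j) (Γ i) =
          (a j : ℤ) * ArSurf.inter R X (L j) (Γ i) - if j = i then ArSurf.inter R X (L i) (Γ i) else 0 := fun j => by
        by_cases h : j = i
        · subst h; simp [Nat.cast_sub hi, sub_mul]
        · simp [h]
      simp only [h1, Finset.sum_sub_distrib, Finset.sum_ite_eq', Finset.mem_univ, if_true]
      ring
    rw [hsum] at hc
    linarith

omit hX hL hω in
theorem prod_succ (b : Fin r → ℕ) (i : Fin r) :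
    ∏ j, (Γ j).ι.ker ^ (b + Pi.single i 1 : Fin r → ℕ) j = (∏ j, (Γ j).ι.ker ^ b j) * (Γ i).ι.ker := by
  classical
  simp only [Pi.add_apply, pow_add, Finset.prod_mul_distrib]
  congr 1
  rw [Finset.prod_eq_single i (fun j _ hj => by simp [Pi.single_apply, hj]) (by simp)]
  simp

include hX hL hω in
/-- No first cohomology. -/
theorem subsingleton_H1_divisor : ∀ (s : ℕ) (a : Fin r → ℕ), ∑ j, a j = s → NegBelow Γ L ω a →
    Subsingleton (Coh.HH X.left (ClSub.quotMod (∏ j, (Γ j).ι.ker ^ a j)) 1) := by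
  haveI := isProper_hom hX
  intro s
  induction s with
  | zero =>
    intro a ha _
    obtain rfl : a = 0 := funext fun j => Finset.sum_eq_zero_iff.1 ha j (Finset.mem_univ j)
    rw [show ∏ j, (Γ j).ι.ker ^ (0 : Fin r → ℕ) j = ⊤ from (Finset.prod_eq_one fun j _ => pow_zero _).trans rfl]
    exact Euler.subsingleton_HH_of_isZero
      (CurveCohLib.isZero_of_subsingleton_stalks fun x => ParShLib.subsingleton_stalk_quotMod _
        (by rw [Scheme.IdealSheafData.support_top]; exact id)) 1
  | succ s ih =>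
    intro a ha hneg
    obtain ⟨i, b, rfl, hdeg⟩ := exists_step hX hL hω (by rintro rfl; simp at ha) hneg
    have hJ := (IdealCl.eff_and_cl_prod Finset.univ (fun j => (Γ j).ι.ker) (fun j => heff_vert hX _) b).1
    have hsum : ∑ j, b j = s := by
      simp [Finset.sum_add_distrib] at ha
      omega
    rw [prod_succ]
    obtain ⟨f, w, hS⟩ := exists_step_ses (Γ i) hJ (RelCurveDiv.mul_le_left _ _)
    refine subsingleton_mid hS 1 ?_ (ih b hsum (hneg.mono fun j => by simp))
    haveI := subsingleton_H1 hX (Γ i) (PicClLib.isInvertible_pullback (Γ i).ι (IdealCl.isInvertible_idealMod hJ)) hdeg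
    obtain ⟨e⟩ := QCoh.HH_push_of_isAffineHom (Γ i).ι (QCoh.isQCoh_pullback (Γ i).ι (PPSheaf.isQCoh_idealMod
      (∏ j, (Γ j).ι.ker ^ b j))) 1
    exact e.symm.toEquiv.subsingleton

end Family

/-- An invertible module of degree zero on a line-like curve is trivial. -/
theorem trivial_of_deg_zero [IsProper X.hom] (E : ArSurf.VertComp R X) {M : E.curve.left.Modules}
    (hM : PicF.IsInvertible M)
    (h1 : FGA.eulerCharLE (IsLocalRing.ResidueField R) E.curve.left (Coh.structureModule E.curve.left) 1 > 0)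
    (hd : ArSurf.curveDeg (IsLocalRing.ResidueField R) E.curve.left M = 0) :
    Nonempty (M ≅ Coh.structureModule E.curve.left) := by
  let k := IsLocalRing.ResidueField R
  haveI := ArInter.isProper_curve E
  haveI := CurveCohLib.isNoetherian_of_proper (k := k) (X := E.curve.left)
  have hχ : FGA.eulerCharLE k E.curve.left M 1 = FGA.eulerCharLE k E.curve.left (Coh.structureModule E.curve.left) 1 := by
    rw [ArSurf.curveDeg] at hd; linarith
  have hne : Nontrivial (Coh.HH E.curve.left M 0) := by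
    by_contra h
    rw [not_nontrivial_iff_subsingleton] at h
    rw [← hχ, FGA.eulerCharLE] at h1
    haveI := h
    have h2 : (Module.finrank k (Coh.HH E.curve.left M 0) : ℤ) = 0 := by
      exact_mod_cast Module.finrank_zero_of_subsingleton
    simp only [Finset.sum_range_succ, Finset.sum_range_zero, zero_add, pow_zero, one_mul, pow_one] at h1
    rw [h2] at h1
    have h3 : (0 : ℤ) ≤ (Module.finrank k (Coh.HH E.curve.left M 1) : ℤ) := Int.natCast_nonneg _
    linarith
  obtain ⟨x, hx⟩ := exists_ne (0 : Coh.HH E.curve.left M 0)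
  let eq₀ : Coh.HH E.curve.left M 0 ≃+ Γ(M, ⊤) := Sheaf.H.equiv₀ (Coh.toAb M) isTerminalTop
  let φ : Coh.structureModule E.curve.left ⟶ M := QCoh.homOfTop (eq₀ x)
  have hφ : φ ≠ 0 := fun h => hx (eq₀.injective (by
    rw [map_zero, ← homOfTop_one (eq₀ x)]
    show φ.app ⊤ (1 : Γ(E.curve.left, ⊤)) = 0
    rw [h]; rfl))
  have hd' := deg_eq E hM
  have heq : Curv2.euler k E.curve.left (Coh.structureModule E.curve.left) = Curv2.euler k E.curve.left M := by
    have : ArSurf.curveDeg k E.curve.left M = 0 := hd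
    rw [hd'] at this
    linarith
  haveI := (CurveDeg.euler_le_and_isIso k E.dim_eq.le CurveDeg.isInvertible_structureModule hM φ hφ).2 heq
  exact ⟨(asIso φ).symm⟩

/-- The kernel of the restriction, as a module on the thickened divisor. -/
theorem exists_kernel_iso [IsProper X.hom] (Γc : ArSurf.VertComp R X) {J : X.left.IdealSheafData}
    (hJ : BlowUp.IsEffCartierIdeal J) (hle : J * Γc.ι.ker ≤ J)
    (j : Γc.curve.left ⟶ (J * Γc.ι.ker).subscheme) (hj : j ≫ (J * Γc.ι.ker).subschemeι = Γc.ι) :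
    Nonempty (ClSub.idealMod (Scheme.IdealSheafData.inclusion hle).ker ≅
      (Scheme.Modules.pushforward j).obj ((Scheme.Modules.pullback Γc.ι).obj (ClSub.idealMod J))) := by
  let I := J * Γc.ι.ker
  let z := I.subschemeι
  let i := Scheme.IdealSheafData.inclusion hle
  obtain ⟨f, w, hS⟩ := exists_step_ses Γc hJ hle
  haveI : IsClosedImmersion i := IsClosedImmersion.of_comp i z
  let P := Scheme.Modules.pushforward z
  -- the kernel of the unit is the ideal
  let q : ClSub.quotMod i.ker ≅ (Scheme.Modules.pushforward i).obj (Coh.structureModule J.subscheme) :=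
    haveI := DivisorExt.isIso_unitToPush i.toImage
    (Scheme.Modules.pushforward i.ker.subschemeι).mapIso (asIso (ClSub.unitToPush i.toImage)) ≪≫
      (Scheme.Modules.pushforwardComp i.toImage i.ker.subschemeι).app _ ≪≫
      (Scheme.Modules.pushforwardCongr i.toImage_imageι).app _
  have hq : ClSub.toSubscheme i.ker ≫ q.hom = ClSub.unitToPush i := by
    apply Scheme.Modules.hom_ext
    intro U
    ext s
    exact (ConcreteCategory.congr_hom (Scheme.Hom.congr_app i.toImage_imageι.symm U) s).symm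
  let a : ClSub.idealMod i.ker ≅ kernel (ClSub.unitToPush i) :=
    kernel.mapIso (ClSub.toSubscheme i.ker) (ClSub.unitToPush i) (Iso.refl _) q (by simp [hq])
  haveI : PreservesLimitsOfSize.{0, 0} P :=
    (Scheme.Modules.pullbackPushforwardAdjunction z).rightAdjoint_preservesLimits
  let c : (Scheme.Modules.pushforward z).obj ((Scheme.Modules.pushforward i).obj (Coh.structureModule J.subscheme)) ≅
      ClSub.quotMod J :=
    (Scheme.Modules.pushforwardComp i z).app _ ≪≫
      (Scheme.Modules.pushforwardCongr (Scheme.IdealSheafData.inclusion_subschemeι hle)).app _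
  have hc : P.map (ClSub.unitToPush i) ≫ c.hom = Chain.quotMap hle := by
    simp [c, Chain.quotMap, P, z, i]; rfl
  let b : P.obj (kernel (ClSub.unitToPush i)) ≅ kernel (Chain.quotMap hle) :=
    PreservesKernel.iso P (ClSub.unitToPush i) ≪≫
      kernel.mapIso (P.map (ClSub.unitToPush i)) (Chain.quotMap hle) (Iso.refl _) c (by simp [hc])
  let d : kernel (Chain.quotMap hle) ≅
      (Scheme.Modules.pushforward Γc.ι).obj ((Scheme.Modules.pullback Γc.ι).obj (ClSub.idealMod J)) :=
    IsLimit.conePointUniqueUpToIso (kernelIsKernel (Chain.quotMap hle)) hS.fIsKernel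
  haveI : IsClosedImmersion j := by
    haveI : IsClosedImmersion (j ≫ z) := by rw [hj]; exact Γc.isClosedImmersion
    exact IsClosedImmersion.of_comp j z
  let e : P.obj (ClSub.idealMod i.ker) ≅
      P.obj ((Scheme.Modules.pushforward j).obj ((Scheme.Modules.pullback Γc.ι).obj (ClSub.idealMod J))) :=
    P.mapIso a ≪≫ b ≪≫ d ≪≫ (Scheme.Modules.pushforwardCongr hj).symm.app _ ≪≫
      (Scheme.Modules.pushforwardComp j z).symm.app _
  haveI := AmpleVan.faithful_push z
  haveI : (Scheme.Modules.pushforward z).Full := ⟨fun χ => H9Misc.ClosedPushFull.exists_map z χ⟩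
  exact ⟨(Functor.FullyFaithful.ofFullyFaithful (Scheme.Modules.pushforward z)).preimageIso e⟩

/-- Gluing frames on two disjoint opens covering everything. -/
theorem iso_of_frames {Z : Scheme.{u}} {M : Z.Modules} {V₁ V₂ : Z.Opens} (hd : V₁ ⊓ V₂ = ⊥) (hc : V₁ ⊔ V₂ = ⊤)
    {e₁ : Γ(M, V₁)} (h₁ : InvX.IsFrame e₁) {e₂ : Γ(M, V₂)} (h₂ : InvX.IsFrame e₂) :
    ∃ φ : Coh.structureModule Z ⟶ M, IsIso φ := by
  let F : TopCat.Sheaf Ab.{u} Z := ⟨M.presheaf, M.isSheaf⟩
  let V : ULift.{u} Bool → Z.Opens := fun b => if b.down then V₁ else V₂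
  let sf : ∀ b, ToType (F.obj.obj (op (V b))) := fun b =>
    match b with
    | ⟨true⟩ => e₁
    | ⟨false⟩ => e₂
  have hcov : (⊤ : Z.Opens) ≤ iSup V := by
    rw [← hc]
    exact sup_le (le_iSup V ⟨true⟩) (le_iSup V ⟨false⟩)
  have hcompat : TopCat.Presheaf.IsCompatible F.obj V sf := by
    have hbot : ∀ (W : Z.Opens), W = ⊥ → Subsingleton Γ(M, W) := fun W hW => by
      subst hW
      exact ⟨fun x y => AModX.eq_of_locally (M := M) x y fun p hp => absurd hp (by simp)⟩
    rintro ⟨b⟩ ⟨c⟩
    cases b <;> cases c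
    · rfl
    · haveI := hbot (V ⟨false⟩ ⊓ V ⟨true⟩) (by simp [V, inf_comm, hd])
      exact Subsingleton.elim (α := Γ(M, V ⟨false⟩ ⊓ V ⟨true⟩)) _ _
    · haveI := hbot (V ⟨true⟩ ⊓ V ⟨false⟩) (by simp [V, hd])
      exact Subsingleton.elim (α := Γ(M, V ⟨true⟩ ⊓ V ⟨false⟩)) _ _
    · rfl
  obtain ⟨s, hs, -⟩ := F.existsUnique_gluing' V ⊤ (fun b => homOfLE le_top) hcov sf hcompat
  let t : Γ(M, ⊤) := s
  let φ : Coh.structureModule Z ⟶ M := QCoh.homOfTop t
  have h1 : InvX.one φ = t := homOfTop_one t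
  have l1 : V₁ ≤ CohB1.genLocus M φ := InvX.le_genLocus φ (by rw [h1]; exact (hs ⟨true⟩ : AModX.res M _ t = e₁) ▸ h₁)
  have l2 : V₂ ≤ CohB1.genLocus M φ := InvX.le_genLocus φ (by rw [h1]; exact (hs ⟨false⟩ : AModX.res M _ t = e₂) ▸ h₂)
  exact ⟨φ, isIso_of_gen φ fun x => (hc ▸ sup_le l1 l2 : (⊤ : Z.Opens) ≤ CohB1.genLocus M φ) trivial⟩

section Main

variable {r : ℕ} {Γ : Fin r → ArSurf.VertComp R X} {L : Fin r → X.left.Modules}
  (hX : ArSurf.IsArithSurface R X)
  (hL : ∀ j, ClSub.IsInverseOf (L j) (ClSub.idealMod (Γ j).ι.ker))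
  {ω : X.left.Modules} (hω : Canon.IsCanonical X.hom ω)

/-- Degree zero on the components of `Γ` lying in `Z`. -/
def DegZero (Γ : Fin r → ArSurf.VertComp R X) {Z : Scheme.{u}} (z : Z ⟶ X.left) (N : Z.Modules) : Prop :=
  ∀ (i : Fin r) (g : (Γ i).curve.left ⟶ Z), g ≫ z = (Γ i).ι →
    ArSurf.curveDeg (IsLocalRing.ResidueField R) (Γ i).curve.left ((Scheme.Modules.pullback g).obj N) = 0

include hX hL hω in
theorem pic_trivial : ∀ (s : ℕ) (a : Fin r → ℕ), ∑ j, a j = s → NegBelow Γ L ω a →
    ∀ (I : X.left.IdealSheafData), I = ∏ j, (Γ j).ι.ker ^ a j →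
    ∀ N : I.subscheme.Modules, PicF.IsInvertible N → DegZero Γ I.subschemeι N →
      Nonempty (N ≅ Coh.structureModule I.subscheme) := by
  classical
  haveI := isProper_hom hX
  intro s
  induction s with
  | zero =>
    intro a ha _ I hI N hN _
    obtain rfl : a = 0 := funext fun j => Finset.sum_eq_zero_iff.1 ha j (Finset.mem_univ j)
    have hT : I = ⊤ := hI.trans ((Finset.prod_eq_one fun j _ => pow_zero _).trans rfl)
    haveI : IsEmpty I.subscheme := ⟨fun x => by
      have h : I.subschemeι x ∈ (I.support : Set X.left) := I.range_subschemeι.le ⟨x, rfl⟩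
      have h0 : (I.support : Set X.left) = ∅ := by
        rw [congrArg Scheme.IdealSheafData.support hT, Scheme.IdealSheafData.support_top]; rfl
      rw [h0] at h
      exact h⟩
    let φ : Coh.structureModule I.subscheme ⟶ N := 0
    haveI : IsIso φ := isIso_of_gen φ fun x => isEmptyElim x
    exact ⟨(asIso φ).symm⟩
  | succ s ih =>
    intro a ha hneg I hI N hN hd0
    obtain ⟨i, b, rfl, hdeg⟩ := exists_step hX hL hω (by rintro rfl; simp at ha) hneg
    have hsum : ∑ j, b j = s := by simp [Finset.sum_add_distrib] at ha; omega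
    have hJ := (IdealCl.eff_and_cl_prod Finset.univ (fun j => (Γ j).ι.ker) (fun j => heff_vert hX _) b).1
    rw [prod_succ] at hI
    obtain ⟨J, hJdef⟩ : ∃ J, J = ∏ j, (Γ j).ι.ker ^ b j := ⟨_, rfl⟩
    rw [← hJdef] at hI hJ hdeg
    subst hI
    let K := (Γ i).ι.ker
    let Z := (J * K).subscheme
    let z := (J * K).subschemeι
    have hle : J * K ≤ J := RelCurveDiv.mul_le_left _ _
    let inc := Scheme.IdealSheafData.inclusion hle
    haveI : IsClosedImmersion inc := IsClosedImmersion.of_comp inc z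
    have hleK : J * K ≤ (Γ i).ι.ker := RelCurveDiv.mul_le_right _ _
    let j : (Γ i).curve.left ⟶ Z := IsClosedImmersion.lift z (Γ i).ι (by rw [Scheme.IdealSheafData.ker_subschemeι]; exact hleK)
    have hjz : j ≫ z = (Γ i).ι := IsClosedImmersion.lift_fac _ _ _
    haveI : IsClosedImmersion j := by
      haveI : IsClosedImmersion (j ≫ z) := by rw [hjz]; exact (Γ i).isClosedImmersion
      exact IsClosedImmersion.of_comp j z
    -- the restriction to the smaller divisor is trivial
    have hNb : Nonempty ((Scheme.Modules.pullback inc).obj N ≅ Coh.structureModule J.subscheme) := by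
      refine ih b hsum (hneg.mono fun j => by simp) J hJdef _ (PicClLib.isInvertible_pullback inc hN) fun i' g hg => ?_
      have h := hd0 i' (g ≫ inc) (by rw [Category.assoc, Scheme.IdealSheafData.inclusion_subschemeι, hg])
      rw [← h]
      haveI := ArInter.isProper_curve (Γ i')
      haveI := PicClLib.isInvertible_pullback g (PicClLib.isInvertible_pullback inc hN)
      rw [ArInter.curveDeg_eq (Γ i') (PicClLib.isInvertible_pullback g (PicClLib.isInvertible_pullback inc hN)),
        ArInter.curveDeg_eq (Γ i') (PicClLib.isInvertible_pullback _ hN)]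
      exact CurveRR.deg_congr (IsLocalRing.ResidueField R) ((Scheme.Modules.pullbackComp g inc).app N) 1
    -- the kernel has no first cohomology
    obtain ⟨κ⟩ := exists_kernel_iso (Γ i) hJ hle j hjz
    let A := (Scheme.Modules.pullback (Γ i).ι).obj (ClSub.idealMod J)
    let Nj := (Scheme.Modules.pullback j).obj N
    have hA : PicF.IsInvertible A := PicClLib.isInvertible_pullback _ (IdealCl.isInvertible_idealMod hJ)
    have hNj : PicF.IsInvertible Nj := PicClLib.isInvertible_pullback _ hN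
    have hM : PicF.IsInvertible (CohB1.tensorMod A Nj) := PicMul.isInvertible_tensor hA hNj
    have hdegM : ArSurf.curveDeg (IsLocalRing.ResidueField R) (Γ i).curve.left (CohB1.tensorMod A Nj) =
        ArSurf.inter R X (ClSub.idealMod J) (Γ i) := by
      haveI := ArInter.isProper_curve (Γ i)
      have h0 := hd0 i j hjz
      rw [ArInter.curveDeg_eq (Γ i) hNj] at h0
      rw [ArSurf.inter, ArInter.curveDeg_eq (Γ i) hM, ArInter.curveDeg_eq (Γ i) hA]
      exact (CurveRR.deg_tensor (IsLocalRing.ResidueField R) (Γ i).dim_eq hA hNj).trans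
        (by rw [h0, add_zero])
    have hh1 : Subsingleton (Coh.HH Z (CohB1.tensorMod N (ClSub.idealMod inc.ker)) 1) := by
      haveI := KFlatLib.isIso_projMod_of_isClosedImmersion j A N
      let e : CohB1.tensorMod N (ClSub.idealMod inc.ker) ≅ (Scheme.Modules.pushforward j).obj (CohB1.tensorMod A Nj) :=
        (DCoh.tensorBi.obj N).mapIso κ ≪≫ (PicMul.comm N _).some ≪≫ asIso (KFlatLib.projMod j A N)
      haveI := subsingleton_H1 hX (Γ i) hM (by rw [hdegM]; exact hdeg)
      obtain ⟨a⟩ := QCoh.HH_push_of_isAffineHom j (AmpleDesc5.isQCoh_of_isInvertible hM) 1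
      exact QCoh.subsingleton_HH_of_iso e.symm 1 a.symm.toEquiv.subsingleton
    obtain ⟨σ, hσ⟩ := ArtinTriv.exists_section_generating inc hN (Iso.refl _) hh1 hNb
    -- the curve
    have hrj : ∀ x : Z, z x ∈ (K.support : Set X.left) → x ∈ Set.range j := fun x hx => by
      rw [Scheme.Hom.support_ker, (Γ i).ι.isClosedEmbedding.isClosed_range.closure_eq] at hx
      obtain ⟨c, hc⟩ := hx
      exact ⟨c, z.isClosedEmbedding.injective (by rw [← Scheme.Hom.comp_apply, hjz, hc])⟩
    have hcover : ∀ x : Z, x ∈ Set.range inc ∨ x ∈ Set.range j := fun x => by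
      have h : z x ∈ ((J * K).support : Set X.left) := (J * K).range_subschemeι.le ⟨x, rfl⟩
      rw [Scheme.IdealSheafData.support_mul] at h
      rcases h with h | h
      · refine Or.inl ?_
        rw [← J.range_subschemeι] at h
        obtain ⟨c, hc⟩ := h
        exact ⟨c, z.isClosedEmbedding.injective (by rw [← hc, ← Scheme.Hom.comp_apply, Scheme.IdealSheafData.inclusion_subschemeι])⟩
      · exact Or.inr (hrj x h)
    let e : Coh.structureModule (Γ i).curve.left ≅ (Scheme.Modules.pullback j).obj (Coh.structureModule Z) :=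
      (LefFEt.uIso j).symm
    let σj := e.hom ≫ (Scheme.Modules.pullback j).map σ
    have hσj : CohB1.genLocus Nj σj = j ⁻¹ᵁ CohB1.genLocus N σ := InvX.genLocus_pullback j hN σ e
    have hχpos : 0 < FGA.eulerCharLE (IsLocalRing.ResidueField R) (Γ i).curve.left (Coh.structureModule (Γ i).curve.left) 1 := by
      have hs := hneg (Pi.single i 1) (fun j => by by_cases h : j = i <;> simp [h]) (by
        intro h; simpa using congrFun h i)
      have hadj := inter_add_inter hX (Γ i) (L i) (hL i) ω hω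
      have hsimp : adjForm Γ L ω (Pi.single i 1) = ArSurf.inter R X (L i) (Γ i) + ArSurf.inter R X ω (Γ i) := by
        simp [adjForm, Pi.single_apply, Finset.sum_ite_eq']
      linarith
    obtain ⟨θ⟩ := trivial_of_deg_zero (Γ i) hNj hχpos (hd0 i j hjz)
    by_cases hσ0 : σj = 0
    · -- the curve is disjoint from the rest
      have hdisj : ∀ x, x ∈ Set.range inc → x ∈ Set.range j → False := by
        rintro x hx ⟨c, rfl⟩
        have h1 : c ∈ j ⁻¹ᵁ CohB1.genLocus N σ := hσ hx
        rw [← hσj, hσ0] at h1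
        obtain ⟨U, hcU, hU⟩ := InvX.mem_genLocus h1
        have h0 : AModX.res Nj (le_top : U ≤ ⊤) (InvX.one (0 : Coh.structureModule (Γ i).curve.left ⟶ Nj)) = 0 :=
          map_zero _
        rw [h0] at hU
        have h2 := (hU U le_rfl).1 (show (fun r : Γ((Γ i).curve.left, U) => r • AModX.res Nj le_rfl 0) 1 =
          (fun r : Γ((Γ i).curve.left, U) => r • AModX.res Nj le_rfl 0) 0 by simp)
        haveI : Nonempty U := ⟨⟨c, hcU⟩⟩
        exact one_ne_zero h2
      let V₁ : Z.Opens := ⟨(Set.range j)ᶜ, j.isClosedEmbedding.isClosed_range.isOpen_compl⟩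
      let V₂ : Z.Opens := ⟨(Set.range inc)ᶜ, inc.isClosedEmbedding.isClosed_range.isOpen_compl⟩
      have hd : V₁ ⊓ V₂ = ⊥ := by
        refine eq_bot_iff.2 fun x hx => ?_
        rcases hcover x with h | h
        · exact absurd h hx.2
        · exact absurd h hx.1
      have hc : V₁ ⊔ V₂ = ⊤ := by
        refine eq_top_iff.2 fun x _ => ?_
        by_cases h : x ∈ Set.range j
        · exact Or.inr fun h' => hdisj x h' h
        · exact Or.inl h
      have hV₁ : InvX.IsFrame (AModX.res N (le_top : V₁ ≤ ⊤) (InvX.one σ)) := by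
        have hle' : V₁ ≤ CohB1.genLocus N σ := fun x hx => hσ ((hcover x).resolve_right hx)
        exact isFrame_gen σ hle'
      -- near the curve the divisor is the curve
      let T : X.left.Opens := J.support.compl
      have hV₂T : V₂ = z ⁻¹ᵁ T := by
        refine Opens.ext (Set.ext fun x => ?_)
        refine not_congr ⟨fun ⟨c, hc⟩ => ?_, fun h => ?_⟩
        · show z x ∈ (J.support : Set X.left)
          rw [← hc, ← Scheme.Hom.comp_apply, Scheme.IdealSheafData.inclusion_subschemeι]
          exact J.range_subschemeι.le ⟨c, rfl⟩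
        · obtain ⟨c, hc⟩ := J.range_subschemeι.ge (show z x ∈ (J.support : Set X.left) from h)
          exact ⟨c, z.isClosedEmbedding.injective (by rw [← hc, ← Scheme.Hom.comp_apply, Scheme.IdealSheafData.inclusion_subschemeι])⟩
      have hjV : ∀ c, j c ∈ V₂ := fun c h => hdisj _ h ⟨c, rfl⟩
      let j₂ : (Γ i).curve.left ⟶ (V₂ : Scheme.{u}) :=
        IsOpenImmersion.lift V₂.ι j (by rw [Scheme.Opens.range_ι]; rintro _ ⟨c, rfl⟩; exact hjV c)
      have hj₂ : j₂ ≫ V₂.ι = j := IsOpenImmersion.lift_fac _ _ _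
      haveI : IsClosedImmersion (j₂ ≫ V₂.ι) := by rw [hj₂]; infer_instance
      haveI : IsClosedImmersion j₂ := IsClosedImmersion.of_comp j₂ V₂.ι
      have hjker : j.ker = K.comap z := by
        rw [← FComplLib.ker_comp_comap j z, hjz]
      have hiso : IsIso j₂ := by
        refine IsClosedImmersion.isIso_of_ker_eq j₂ (𝟙 _) j₂ (Category.comp_id _) ?_
        rw [Scheme.Hom.ker_eq_bot_of_isIso (𝟙 _)]
        have h1 : j₂.ker = j.ker.comap V₂.ι := by rw [← hj₂, ker_comp_comap_mono j₂ V₂.ι]
        have h2 : (J.comap T.ι) = ⊤ := by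
          refine (Scheme.IdealSheafData.support_eq_bot_iff _).1 ?_
          refine Closeds.ext ?_
          rw [Scheme.IdealSheafData.support_comap]
          exact Set.eq_empty_of_forall_notMem fun x hx => x.2 hx
        obtain ⟨z', hz'⟩ : ∃ z' : (V₂ : Scheme.{u}) ⟶ (T : Scheme.{u}), z' ≫ T.ι = V₂.ι ≫ z :=
          ⟨IsOpenImmersion.lift T.ι (V₂.ι ≫ z) (by
            rw [Scheme.Opens.range_ι]; rintro _ ⟨x, rfl⟩; exact hV₂T.le x.2), IsOpenImmersion.lift_fac _ _ _⟩
        rw [h1, hjker, ← Scheme.IdealSheafData.comap_comp, ← hz', Scheme.IdealSheafData.comap_comp,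
          ← show (J * K).comap T.ι = K.comap T.ι by rw [FComplLib.comap_mul, h2, ← Scheme.IdealSheafData.one_eq_top, one_mul],
          ← Scheme.IdealSheafData.comap_comp, hz', Scheme.IdealSheafData.comap_comp]
        rw [show (J * K).comap z = ⊥ from ker_self_comap' (J * K), Scheme.IdealSheafData.comap_bot]
      haveI := hiso
      obtain ⟨θ'⟩ : Nonempty (N.restrict V₂.ι ≅ Coh.structureModule (V₂ : Scheme.{u})) := by
        refine ⟨(Scheme.Modules.restrictFunctorIsoPullback V₂.ι).app N ≪≫ ?_⟩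
        refine (Scheme.Modules.pullbackCongr (show V₂.ι = inv j₂ ≫ j by rw [← hj₂, IsIso.inv_hom_id_assoc])).app N ≪≫
          ((Scheme.Modules.pullbackComp (inv j₂) j).app N).symm ≪≫
          (Scheme.Modules.pullback (inv j₂)).mapIso θ ≪≫ LefFEt.uIso (inv j₂)
      obtain ⟨e₂, hθ'⟩ : ∃ e₂ : Γ(N, V₂), InvX.IsFrame e₂ := exists_frame_of_restrict θ'
      obtain ⟨φ, hφ⟩ := iso_of_frames hd hc hV₁ (hθ')
      haveI := hφ
      exact ⟨(asIso φ).symm⟩
    · -- a nowhere vanishing section
      haveI := ArInter.isProper_curve (Γ i)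
      haveI := CurveCohLib.isNoetherian_of_proper (k := IsLocalRing.ResidueField R) (X := (Γ i).curve.left)
      haveI : IsIso σj := (CurveDeg.euler_le_and_isIso (IsLocalRing.ResidueField R) (Γ i).dim_eq.le
        CurveDeg.isInvertible_structureModule hNj σj hσ0).2 (CurveCohLib.euler_congr θ).symm
      have htop : j ⁻¹ᵁ CohB1.genLocus N σ = ⊤ := by
        rw [← hσj]
        exact eq_top_iff.2 (le_sSup (show IsIso ((Scheme.Modules.restrictFunctor (⊤ : (Γ i).curve.left.Opens).ι).map σj) from inferInstance))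
      haveI : IsIso σ := isIso_of_gen σ (fun x => by
        rcases hcover x with h | h
        · exact hσ h
        · obtain ⟨c, rfl⟩ := h
          exact htop.ge (trivial : c ∈ (⊤ : (Γ i).curve.left.Opens)))
      exact ⟨(asIso σ).symm⟩

end Main

end Groth.Agent.H26.Adjunction
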