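import Groth.Agent.H26.Adjunction.Sign
import Groth.Agent.H26.ArtinTriv.GenFib
import Groth.Agent.H23.PnChart
import Groth.Agent.MinModel.Exc
import Groth.Agent.SurfSeq.Main

/-!
# Relatively minimal surfaces and nefness of the canonical sheaf
-/

noncomputable section

set_option autoImplicit false
set_option linter.style.haveILetI false
set_option linter.unusedSectionVars false
set_option backward.isDefEq.respectTransparency false
set_option backward.isDefEq.respectTransparency.types false
set_option maxHeartbeats 1000000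

universe u

open CategoryTheory CategoryTheory.Limits AlgebraicGeometry TopologicalSpace
open Groth.Agent.H23 Groth.Agent.H28
open scoped Groth.Agent.H23.PicMul

namespace Groth.Agent.H26.Adjunction

open Groth.Agent

theorem seq_cases {Y X : Scheme.{u}} {r : Y ⟶ X} (h : Models.IsContractionSeq r) :
    IsIso r ∨ ∃ (E : Scheme.{u}) (ι : E ⟶ Y) (_ : IsClosedImmersion ι) (Z : Scheme.{u}) (b : Y ⟶ Z) (r' : Z ⟶ X),
      Models.IsExcCurve ι ∧ Models.IsContractionOf ι b ∧ b ≫ r' = r := by
  cases h with
  | iso e => exact Or.inl inferInstance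
  | step ι b r' hι hE hb hr => exact Or.inr ⟨_, ι, hι, _, b, r', hE, hb, rfl⟩

variable {R : Type u} [CommRing R] [IsDomain R] [IsDiscreteValuationRing R] {X : Over (Spec (CommRingCat.of R))}
  (hX : ArSurf.IsArithSurface R X)

include hX in
theorem exists_inverse_vert (E : ArSurf.VertComp R X) :
    ∃ L : X.left.Modules, ClSub.IsInverseOf L (ClSub.idealMod E.ι.ker) := by
  obtain ⟨L, -, hL⟩ := PicInv.exists_inverse (IdealCl.isInvertible_idealMod (heff_vert hX E))
  letI := PicMul.clMonoid X.left
  refine ⟨L, PicMul.cl_eq_iff.1 ?_⟩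
  rw [PicMul.cl_tensor, mul_comm, ← PicMul.cl_tensor]
  exact PicMul.cl_eq_iff.2 hL

include hX in
/-- An exceptional curve has negative canonical degree. -/
theorem canonical_neg_of_isExcCurve {ω : X.left.Modules} (hω : Canon.IsCanonical X.hom ω)
    (Γ : ArSurf.VertComp R X) (h : Models.IsExcCurve Γ.ι) : ArSurf.inter R X ω Γ < 0 := by
  haveI := isProper_hom hX
  haveI := hX.2.1
  have heff := heff_vert hX Γ
  obtain ⟨L, hL⟩ := exists_inverse_vert hX Γ
  obtain ⟨h1, hLE⟩ := ExcCrit.invariants_of_exc Γ heff hL h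
  have hadj := inter_add_inter hX Γ L hL ω hω
  rw [EulerFibre.wdeg_sub_h1, h1, hLE, Nat.cast_zero, sub_zero] at hadj
  have hw : (0 : ℤ) < Models.wdeg R X Γ := by exact_mod_cast WDeg.wdeg_pos Γ
  linarith

include hX in
/-- If the canonical sheaf is nef then the surface is relatively minimal. -/
theorem relMinimal_of_nef {ω : X.left.Modules} (hω : Canon.IsCanonical X.hom ω)
    (hnef : ∀ Γ : ArSurf.VertComp R X, 0 ≤ ArSurf.inter R X ω Γ) : Neron.IsRelMinimalRegularModel R X := by
  obtain ⟨hreg, hint, hdim2, hflat, hproj⟩ := id hX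
  refine ⟨hreg, hproj, hflat, fun Y hYreg hYproj hYflat g hg => ?_⟩
  haveI := isProper_hom hX
  haveI := hint
  haveI := hflat
  haveI := hYflat
  haveI : IsProper Y.hom := by
    obtain ⟨n, i, hi, hc⟩ := hYproj
    haveI := hi
    haveI := MultiP1.isProper_toBase (X := Spec (CommRingCat.of R)) n
    exact hc ▸ inferInstance
  let C := pullback X.hom (Neron.genPt R)
  let f : C ⟶ Spec (CommRingCat.of (FractionRing R)) := pullback.snd X.hom (Neron.genPt R)
  obtain ⟨hCint, hCdim⟩ := ArtinTriv.isIntegral_and_dim (X := X) hdim2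
  haveI := hCint
  let γ : C ⟶ pullback Y.hom (Neron.genPt R) := ((Neron.genericFibre R).map g).left
  haveI : IsIso ((Neron.genericFibre R).map g).left :=
    inferInstanceAs (IsIso ((Over.forget _).map ((Neron.genericFibre R).map g)))
  haveI : IsIso γ := inferInstanceAs (IsIso ((Neron.genericFibre R).map g).left)
  have hγ1 : γ ≫ pullback.fst Y.hom (Neron.genPt R) = pullback.fst X.hom (Neron.genPt R) ≫ g.left :=
    pullback.lift_fst _ _ _
  have hγ2 : γ ≫ pullback.snd Y.hom (Neron.genPt R) = f := pullback.lift_snd _ _ _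
  let M : MinModel.Model (R := R) C f :=
    ⟨X.left, X.hom, pullback.fst _ _, IsPullback.of_hasPullback _ _,
      ⟨⟨hflat, inferInstance, inferInstance, _, IsPullback.of_hasPullback _ _⟩, inferInstance, hreg⟩⟩
  have hsq : IsPullback (γ ≫ pullback.fst Y.hom (Neron.genPt R)) f Y.hom (Neron.genPt R) := by
    rw [← hγ2]
    exact IsPullback.of_iso (IsPullback.of_hasPullback Y.hom (Neron.genPt R)) (asIso γ).symm (Iso.refl _)
      (Iso.refl _) (Iso.refl _) (by simp) (by simp) (by simp) (by simp)
  let N : MinModel.Model (R := R) C f :=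
    ⟨Y.left, Y.hom, γ ≫ pullback.fst _ _, hsq, ⟨⟨hYflat, inferInstance, inferInstance, _, hsq⟩, inferInstance, hYreg⟩⟩
  haveI : IsIntegral M.Z := hint
  haveI := N.isIntegral
  haveI := M.isNoetherian
  haveI := N.isNoetherian
  obtain ⟨hgP, hbir⟩ := M.proper_birational N g.left (Over.w g) hγ1.symm
  haveI := hgP
  have hseq : Models.IsContractionSeq g.left := by
    simpa using SurfSeq.seq_of_birational (hX := M.regular) (hdX := M.dim_le hCdim) g.left hbir N.regular
      (N.dim_le hCdim) N.Z (𝟙 _) (Models.IsContractionSeq.iso (Iso.refl N.Z))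
  rcases seq_cases hseq with h | ⟨E, ι, hι, Z, b, r', hE, hb, hbr⟩
  · haveI := h
    haveI : IsIso ((Over.forget _).map g) := h
    exact isIso_of_reflects_iso g (Over.forget _)
  exfalso
  haveI := hι
  obtain ⟨-, k, hk, e, -⟩ := id hE
  haveI : IsIntegral (CohB1.ProjSpace 1 k) := H23.PnChart.isIntegral_projSpace 1 k
  haveI : Nonempty E := ⟨e.hom (genericPoint _)⟩
  haveI : IsIntegral E := isIntegral_of_isOpenImmersion e.inv
  obtain ⟨-, -, y, hy, hrange, -⟩ := hb
  have hconst : ∀ a, X.hom (ι a) = Y.hom (r' y) := fun a => by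
    have hby : b (ι a) = y := hrange.le ⟨a, rfl⟩
    rw [← Over.w g, ← hbr, Scheme.Hom.comp_apply, Scheme.Hom.comp_apply, hby]
  have hcl : ∀ a, X.hom (ι a) = IsLocalRing.closedPoint R := fun a => by
    have h := (ι ≫ X.hom).isClosedMap _ isClosed_univ
    have himg : (ι ≫ X.hom) '' Set.univ = {Y.hom (r' y)} := by
      rw [Set.image_univ]
      exact Set.eq_singleton_iff_unique_mem.2 ⟨⟨a, hconst a⟩, by rintro _ ⟨b, rfl⟩; exact hconst b⟩
    rw [himg] at h
    rw [hconst a]
    exact (Set.mem_singleton_iff.1 ((IsLocalRing.specializes_closedPoint _).mem_closed h rfl)).symm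
  obtain ⟨Γ, hΓ, e', he'⟩ := MinModel.exists_vertComp ι k e hcl
  haveI := Γ.isClosedImmersion
  haveI := Γ.isIntegral
  have hΓe : Models.IsExcCurve Γ.ι :=
    ExcTransport.isExcCurve_of_ker ι Γ.ι (SurfSeq.ker_eq_of_range ι Γ.ι hΓ.symm) hE
  exact absurd (canonical_neg_of_isExcCurve hX hω Γ hΓe) (not_lt.2 (hnef Γ))

include hX in
/-- If the surface is relatively minimal, every contraction to a point forces nefness. -/
theorem nef_of_relMinimal
    (hg : FGA.eulerCharLE (FractionRing R) ((Neron.genericFibre R).obj X).left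
      (Coh.structureModule ((Neron.genericFibre R).obj X).left) 1 ≤ 0)
    (hcast : ∀ (E : ArSurf.VertComp R X) (k' : Type u) [Field k'] [Algebra (IsLocalRing.ResidueField R) k']
      [FiniteDimensional (IsLocalRing.ResidueField R) k'] (e : E.curve.left ≅ CohB1.ProjSpace 1 k')
      (_ : e.hom ≫ (CohB1.ProjSpace 1 k' ↘ Spec (CommRingCat.of k')) ≫
        Spec.map (CommRingCat.ofHom (algebraMap (IsLocalRing.ResidueField R) k')) = E.curve.hom)
      (L : X.left.Modules) (_ : ClSub.IsInverseOf L (ClSub.idealMod E.ι.ker))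
      (_ : ArSurf.inter R X L E = -(Module.finrank (IsLocalRing.ResidueField R) k' : ℤ)),
      ∃ (Y : Over (Spec (CommRingCat.of R))) (f : X ⟶ Y) (y : Y.left) (hy : IsClosed ({y} : Set Y.left)),
        ArSurf.IsArithSurface R Y ∧ Set.range (E.ι ≫ f.left) = {y} ∧
        (f.left ⁻¹ᵁ (⟨{y}ᶜ, hy.isOpen_compl⟩ : Y.left.Opens) : Set X.left) = (Set.range E.ι)ᶜ ∧
        IsIso (f.left ∣_ (⟨{y}ᶜ, hy.isOpen_compl⟩ : Y.left.Opens)))
    {ω : X.left.Modules} (hω : Canon.IsCanonical X.hom ω) (hmin : Neron.IsRelMinimalRegularModel R X)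
    (E : ArSurf.VertComp R X) : 0 ≤ ArSurf.inter R X ω E := by
  by_contra hneg
  rw [not_le] at hneg
  haveI := isProper_hom hX
  haveI := hX.2.1
  obtain ⟨L, hL⟩ := exists_inverse_vert hX E
  obtain ⟨k', i1, i2, hfin, e, he, hin⟩ := (exceptional_iff hX hL hω).2
    ⟨hneg, inter_self_neg hX E hL hω hg hneg⟩
  haveI := hfin
  obtain ⟨Y, f, y, hy, hY, hrange, hpre, hoff⟩ := hcast E k' e he L hL (by rw [← hin, neg_neg])
  haveI := isProper_hom hY
  haveI := hY.2.2.2.1
  haveI := hoff
  have hclE : ∀ a, X.hom (E.ι a) = IsLocalRing.closedPoint R := fun a => by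
    rw [← Scheme.Hom.comp_apply, E.w, Scheme.Hom.comp_apply]
    generalize E.curve.hom a = w
    refine PrimeSpectrum.ext ?_
    show Ideal.comap (IsLocalRing.residue R) w.asIdeal = IsLocalRing.maximalIdeal R
    rw [(Ideal.eq_bot_or_top w.asIdeal).resolve_right w.isPrime.ne_top, ← RingHom.ker_eq_comap_bot,
      IsLocalRing.ker_residue]
  have hyc : Y.hom y = IsLocalRing.closedPoint R := by
    obtain ⟨a, ha⟩ := hrange.ge (Set.mem_singleton y)
    rw [← ha, ← Scheme.Hom.comp_apply, Category.assoc, Over.w f, Scheme.Hom.comp_apply]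
    exact hclE a
  have hiso : IsIso ((Neron.genericFibre R).map f) := by
    set V : Y.left.Opens := ⟨{y}ᶜ, hy.isOpen_compl⟩
    haveI : IsIso ((Over.forget _).map ((Neron.genericFibre R).map f)) := by
      show IsIso ((Neron.genericFibre R).map f).left
      let qY := pullback.fst Y.hom (Neron.genPt R)
      have hsub : qY ⁻¹ᵁ V = ⊤ := by
        refine eq_top_iff.2 fun w _ hw => ?_
        have h1 : Y.hom (qY w) = genericPoint (Spec (CommRingCat.of R)) := by
          rw [← Scheme.Hom.comp_apply, pullback.condition, Scheme.Hom.comp_apply]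
          exact HorizDeg.range_specMap_fraction _
        rw [show qY w = y from hw, hyc] at h1
        exact HorizDeg.generic_ne_closed h1.symm
      have hp : IsPullback (pullback.fst X.hom (Neron.genPt R)) ((Neron.genericFibre R).map f).left f.left qY := by
        refine IsPullback.flip (IsPullback.of_right ?_ (pullback.lift_fst _ _ _)
          (IsPullback.of_hasPullback Y.hom (Neron.genPt R)).flip)
        rw [show ((Neron.genericFibre R).map f).left ≫ pullback.snd Y.hom (Neron.genPt R) =
          pullback.snd X.hom (Neron.genPt R) from pullback.lift_snd _ _ _, Over.w f]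
        exact (IsPullback.of_hasPullback X.hom (Neron.genPt R)).flip
      have hq : Set.range qY ⊆ Set.range V.ι := by
        rintro _ ⟨w, rfl⟩
        rw [Scheme.Opens.range_ι]
        exact (hsub.ge (trivial : w ∈ (⊤ : Scheme.Opens _)) :)
      obtain ⟨l, hl⟩ : ∃ l, l ≫ V.ι = qY := ⟨IsOpenImmersion.lift V.ι qY hq, IsOpenImmersion.lift_fac _ _ _⟩
      have t := (isPullback_morphismRestrict f.left V).flip
      let a' := t.lift (pullback.fst X.hom (Neron.genPt R)) (((Neron.genericFibre R).map f).left ≫ l)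
        (by rw [Category.assoc, hl]; exact hp.w)
      have h2 : IsPullback a' ((Neron.genericFibre R).map f).left (f.left ∣_ V) l := by
        refine IsPullback.of_right ?_ (t.lift_snd _ _ _) t
        rw [t.lift_fst, hl]
        exact hp
      exact MorphismProperty.of_isPullback (P := MorphismProperty.isomorphisms Scheme.{u}) h2
        (show MorphismProperty.isomorphisms Scheme.{u} (f.left ∣_ V) from hoff)
    exact isIso_of_reflects_iso _ (Over.forget _)
  haveI := hmin.2.2.2 Y hY.1 hY.2.2.2.2 hY.2.2.2.1 f hiso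
  haveI := E.isIntegral
  haveI := E.isClosedImmersion
  have hd := E.dim_eq
  haveI : Subsingleton E.curve.left := ⟨fun a b => E.ι.isClosedEmbedding.injective
    ((inferInstanceAs (IsIso ((Over.forget _).map f)) : IsIso f.left) |> fun h => by
      haveI := h
      exact f.left.homeomorph.injective ((hrange.le ⟨a, rfl⟩ : (E.ι ≫ f.left) a = y).trans
        (hrange.le ⟨b, rfl⟩ : (E.ι ≫ f.left) b = y).symm))⟩
  have h0 : topologicalKrullDim E.curve.left ≤ 0 := topologicalKrullDim_zero_of_discreteTopology _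
  rw [hd] at h0
  exact absurd h0 (by decide)

end Groth.Agent.H26.Adjunction
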