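import Groth.Agent.H26.Adjunction.Exceptional
import Groth.Agent.H26.Adjunction.Isolated
import Groth.Agent.H26.InterRange

/-!
# Canonical degrees of fibre components
-/

noncomputable section

set_option autoImplicit false
set_option linter.style.haveILetI false
set_option linter.unusedSectionVars false
set_option backward.isDefEq.respectTransparency false
set_option backward.isDefEq.respectTransparency.types false
set_option maxHeartbeats 1000000

universe u

open CategoryTheory CategoryTheory.Limits AlgebraicGeometry TopologicalSpace
open Groth.Agent.H23 Groth.Agent.H28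
open scoped Groth.Agent.H23.PicMul

namespace Groth.Agent.H26.Adjunction

open Groth.Agent

variable {R : Type u} [CommRing R] [IsDomain R] [IsDiscreteValuationRing R] {X : Over (Spec (CommRingCat.of R))}
  (hX : ArSurf.IsArithSurface R X) (E : ArSurf.VertComp R X)
  {L : X.left.Modules} (hL : ClSub.IsInverseOf L (ClSub.idealMod E.ι.ker))
  {ω : X.left.Modules} (hω : Canon.IsCanonical X.hom ω)

include hX hL in
theorem inter_self_nonpos : ArSurf.inter R X L E ≤ 0 := by
  haveI := isProper_hom hX
  obtain ⟨hreg, hint, hdim, hflat, -⟩ := id hX
  haveI := hint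
  haveI := hflat
  obtain ⟨n, Γc, hΓ⟩ := CompList.exists_componentList hdim
  obtain ⟨i, hi⟩ := InterForm.exists_same_range hΓ E
  have h := InterForm.sum_nonpos_of_family hΓ hreg (fun _ : Fin 1 => E) (fun _ => i) (fun _ => hi) (fun _ => L)
    (fun _ => hL) (fun _ => 1)
  simpa using h

include hX hL hω in
/-- In non-positive Euler characteristic a curve of negative canonical degree is exceptional. -/
theorem inter_self_neg
    (hg : FGA.eulerCharLE (FractionRing R) ((Neron.genericFibre R).obj X).left
      (Coh.structureModule ((Neron.genericFibre R).obj X).left) 1 ≤ 0)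
    (hK : ArSurf.inter R X ω E < 0) : ArSurf.inter R X L E < 0 := by
  refine lt_of_le_of_ne (inter_self_nonpos hX E hL) fun h0 => ?_
  obtain ⟨-, c, c', hc, hc', h⟩ := isolated_spec hX E hL hω (isolated_of_inter_self_eq_zero hX E hL h0)
  nlinarith [mul_neg_of_pos_of_neg hc hK, mul_nonneg hc'.le (by linarith : (0 : ℤ) ≤
    -2 * FGA.eulerCharLE (FractionRing R) ((Neron.genericFibre R).obj X).left
      (Coh.structureModule ((Neron.genericFibre R).obj X).left) 1)]

include hX hL hω in
/-- When a component has canonical degree zero. -/
theorem canonical_eq_zero_iff :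
    ArSurf.inter R X ω E = 0 ↔
      ((Models.h1 R X E = 0 ∧ ArSurf.inter R X L E = -2 * (Models.wdeg R X E : ℤ)) ∨
       (FGA.eulerCharLE (FractionRing R) ((Neron.genericFibre R).obj X).left (Coh.structureModule ((Neron.genericFibre R).obj X).left) 1 = 0 ∧
        ∃ U : X.left.Opens, (U : Set X.left) ∩ Models.specialFibreSet R X = Set.range E.ι.base)) := by
  have hadj := inter_add_inter hX E L hL ω hω
  constructor
  · intro hK
    by_cases h0 : ArSurf.inter R X L E = 0
    · have hiso := isolated_of_inter_self_eq_zero hX E hL h0
      obtain ⟨-, c, c', hc, hc', h⟩ := isolated_spec hX E hL hω hiso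
      rw [hK, mul_zero] at h
      exact Or.inr ⟨by
        have := (mul_eq_zero.1 h.symm).resolve_left hc'.ne'
        omega, hiso⟩
    · have hneg := lt_of_le_of_ne (inter_self_nonpos hX E hL) h0
      haveI := isProper_hom hX
      have hs : Subsingleton (Coh.HH E.curve.left (Coh.structureModule E.curve.left) 1) :=
        subsingleton_H1 hX E InvX.isInvertible_structureModule (by
          rw [show ArSurf.curveDeg (IsLocalRing.ResidueField R) E.curve.left (Coh.structureModule E.curve.left) = 0
            from sub_self _]
          linarith)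
      have h1 : Models.h1 R X E = 0 := by
        haveI := hs
        exact Module.finrank_zero_of_subsingleton
      rw [EulerFibre.wdeg_sub_h1, h1, Nat.cast_zero, sub_zero] at hadj
      exact Or.inl ⟨h1, by linarith⟩
  · rintro (⟨h1, h2⟩ | ⟨hχ, hiso⟩)
    · rw [EulerFibre.wdeg_sub_h1, h1, Nat.cast_zero, sub_zero] at hadj
      linarith
    · obtain ⟨-, c, c', hc, -, h⟩ := isolated_spec hX E hL hω hiso
      rw [hχ, mul_zero, mul_zero] at h
      exact (mul_eq_zero.1 h).resolve_left hc.ne'

end Groth.Agent.H26.Adjunction
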